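import Groth.Agent.CycK.Chi.Val

/-! The cycle class on `K₀` of coherent modules of dimension `≤ k + 1` modulo dimension `≤ k - 1`. -/

set_option autoImplicit false
set_option linter.style.haveILetI false
set_option linter.unusedSectionVars false
set_option backward.isDefEq.respectTransparency false
set_option backward.isDefEq.respectTransparency.types false

universe u

open CategoryTheory CategoryTheory.Limits AlgebraicGeometry TopologicalSpace Opposite IsLocalRing CycDet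

namespace Groth.Agent.CycK.Chi

open Groth.Agent Groth.Agent.CycLib Groth.Agent.CycLib.Ratio
open scoped TensorProduct

variable {X : Scheme.{u}} [IsLocallyNoetherian X] {δ : X → ℤ} {k : ℤ}
variable {x : X} {F : X.Modules} {S : Finset X}

variable (δ k) in
/-- Functions which are locally finite sums of divisors. -/
def ratSub [IsLocallyNoetherian X] : AddSubgroup (X → ℤ) where
  carrier := {g | ∃ (ι : Type u) (ξ : ι → X) (f : (i : ι) → X.residueField (ξ i)),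
    Cyc.IsDimFun X δ → ((∀ i, δ (ξ i) = k + 1) ∧ (∀ i, f i ≠ 0) ∧
    (∀ x : X, ∃ U : Set X, IsOpen U ∧ x ∈ U ∧ {i | (closure {ξ i} ∩ U).Nonempty}.Finite) ∧
    ∀ x : X, g x = ∑ᶠ i, Cyc.divFun δ (ξ i) (f i) x)}
  zero_mem' := ⟨PEmpty.{u + 1}, fun i => i.elim, fun i => i.elim, fun _ =>
    ⟨fun i => i.elim, fun i => i.elim, fun _ => ⟨Set.univ, isOpen_univ, trivial, Set.toFinite _⟩,
      fun x => by rw [finsum_of_isEmpty]; rfl⟩⟩
  neg_mem' := by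
    rintro g ⟨ι, ξ, f, h⟩
    refine ⟨ι, ξ, fun i => (f i)⁻¹, fun hd => ?_⟩
    obtain ⟨hξ, hf, hl, hg⟩ := h hd
    refine ⟨hξ, fun i => inv_ne_zero (hf i), hl, fun x => ?_⟩
    rw [Pi.neg_apply, hg, ← finsum_neg_distrib]
    exact finsum_congr fun i => (congrFun (CycLib.divFun_inv hd (hf i)) x).symm
  add_mem' := by
    rintro g g' ⟨ι, ξ, f, h⟩ ⟨ι', ξ', f', h'⟩
    refine ⟨ι ⊕ ι', Sum.elim ξ ξ', fun | .inl i => f i | .inr i => f' i, fun hd => ?_⟩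
    obtain ⟨hξ, hf, hl, hg⟩ := h hd
    obtain ⟨hξ', hf', hl', hg'⟩ := h' hd
    have hloc : ∀ x : X, ∃ U : Set X, IsOpen U ∧ x ∈ U ∧
        {i | (closure {Sum.elim ξ ξ' i} ∩ U).Nonempty}.Finite := fun x => by
      obtain ⟨U, hU, hxU, h1⟩ := hl x
      obtain ⟨V, hV, hxV, h2⟩ := hl' x
      refine ⟨U ∩ V, hU.inter hV, ⟨hxU, hxV⟩, ((h1.image Sum.inl).union (h2.image Sum.inr)).subset ?_⟩
      rintro (i | i) ⟨z, hz, hzU, hzV⟩
      · exact Or.inl ⟨i, ⟨z, hz, hzU⟩, rfl⟩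
      · exact Or.inr ⟨i, ⟨z, hz, hzV⟩, rfl⟩
    refine ⟨fun i => by cases i <;> simp [hξ, hξ'], fun i => ?_, hloc, fun x => ?_⟩
    · cases i
      · exact hf _
      · exact hf' _
    · classical
      have f1 := CycLib.finite_index (δ := δ) ξ f hl x
      have f2 := CycLib.finite_index (δ := δ) ξ' f' hl' x
      rw [Pi.add_apply, hg, hg', finsum_eq_sum_of_support_subset _ (s := f1.toFinset) (by simp),
        finsum_eq_sum_of_support_subset _ (s := f2.toFinset) (by simp),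
        finsum_eq_sum_of_support_subset _ (s := f1.toFinset.disjSum f2.toFinset) (fun i hi => by
          rcases i with i | i
          · simpa using hi
          · simpa using hi), Finset.sum_disjSum]
      rfl

theorem cast_adm {ξ : X} {n n' : ℕ} (h : n = n') {e : Fin n' → F.presheaf.stalk ξ}
    (h1 : IsAdmissible (X.presheaf.stalk ξ) _ e) (h2 : CycLib.Strict (X.presheaf.stalk ξ) e) :
    IsAdmissible (X.presheaf.stalk ξ) _ (e ∘ Fin.cast h) ∧ CycLib.Strict (X.presheaf.stalk ξ) (e ∘ Fin.cast h) := by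
  subst h; exact ⟨h1, h2⟩

theorem cast_ratio {ξ : X} {n n' : ℕ} (h : n = n') (a b : Fin n' → F.presheaf.stalk ξ) :
    ratio a b = ratio (a ∘ Fin.cast h) (b ∘ Fin.cast h) := by
  subst h; rfl

theorem cast_total {R : Type u} [CommRing R] [IsNoetherianRing R] [IsLocalRing R] (q : PrimeSpectrum R)
    {M : Type u} [AddCommGroup M] [Module R M] {n n' : ℕ} (h : n = n') (u : Fin n' → M) :
    total q (u ∘ Fin.cast h) = total q u := by
  subst h; rfl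

theorem eq_len {ε ε' : Fr F} (hε : IsFr δ k ε) (hε' : IsFr δ k ε') {ξ : X} (hξ : δ ξ = k + 1) :
    (ε ξ).1 = (ε' ξ).1 := by
  have h1 := (hε ξ hξ).1
  rw [(hε' ξ hξ).1] at h1
  exact_mod_cast h1.symm

/-- The index set of the change of tuples. -/
abbrev Idx (δ : X → ℤ) (k : ℤ) (F : X.Modules) : Type u := {ξ : X // δ ξ = k + 1 ∧ Nontrivial (F.presheaf.stalk ξ)}

/-- The functions of the change of tuples. -/
noncomputable def change {ε ε' : Fr F} (hε : IsFr δ k ε) (hε' : IsFr δ k ε') (i : Idx δ k F) : X.residueField i.1 :=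
  ratio (ε i.1).2 ((ε' i.1).2 ∘ Fin.cast (eq_len hε hε' i.2.1))

theorem change_spec {ε ε' : Fr F} (hε : IsFr δ k ε) (hε' : IsFr δ k ε') (i : Idx δ k F) :
    clsT (X.presheaf.stalk i.1) (ε i.1).2 = (change hε hε' i : ResidueField (X.presheaf.stalk i.1)) •
      clsT _ ((ε' i.1).2 ∘ Fin.cast (eq_len hε hε' i.2.1)) ∧ change hε hε' i ≠ 0 := by
  obtain ⟨hA, hSt⟩ := cast_adm (eq_len hε hε' i.2.1) (hε' i.1 i.2.1).2.1 (hε' i.1 i.2.1).2.2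
  exact ratio_spec (hε i.1 i.2.1).1 hA hSt (hε i.1 i.2.1).2.1 (hε i.1 i.2.1).2.2

theorem lf_idx (hd : Cyc.IsDimFun X δ) (hF : Cyc.CohLe δ (k + 1) F) (x : X) :
    ∃ U : Set X, IsOpen U ∧ x ∈ U ∧ {i : Idx δ k F | (closure {i.1} ∩ U).Nonempty}.Finite := by
  obtain ⟨U, hU, hx, hfin⟩ := lf_sheafFun hd hF x
  refine ⟨U, hU, hx, (hfin.preimage Subtype.val_injective.injOn).subset fun i ⟨z, hz, hzU⟩ =>
    ⟨(specializes_iff_mem_closure.2 hz).mem_open hU hzU, ?_⟩⟩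
  simp only [Cyc.sheafFun, if_pos i.2.1]
  intro h0
  have h1 : (Module.length (X.presheaf.stalk i.1) (F.presheaf.stalk i.1)).toNat = 0 := by exact_mod_cast h0
  rcases ENat.toNat_eq_zero.1 h1 with h | h
  · exact not_subsingleton_iff_nontrivial.2 i.2.2 (Module.length_eq_zero_iff.1 h)
  · exact (length_lt_top hd hF i.2.1.ge).ne h

theorem valAt_change (hd : Cyc.IsDimFun X δ) (hx : δ x = k) (hS : GoodSet δ k F x S)
    (hS0 : ∀ ξ ∈ S, Nontrivial (F.presheaf.stalk ξ)) {ε ε' : Fr F} (hε : IsFr δ k ε) (hε' : IsFr δ k ε')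
    {u' : ∀ j : {ξ // ξ ∈ S}, Fin (ε' j.1).1 → F.presheaf.stalk x} (hu' : Tup hS ε' u') :
    ∃ u, Tup hS ε u ∧ valAt hS ε' u' - valAt hS ε u =
      -∑ j : {ξ // ξ ∈ S}, Cyc.ordAt x j.1 (hS.le j.1 j.2).2
        (change hε hε' ⟨j.1, (hS.le j.1 j.2).1, hS0 j.1 j.2⟩) := by
  have hl : ∀ j : {ξ // ξ ∈ S}, (ε j.1).1 = (ε' j.1).1 := fun j => eq_len hε hε' (hS.le j.1 j.2).1
  let u : ∀ j : {ξ // ξ ∈ S}, Fin (ε j.1).1 → F.presheaf.stalk x := fun j => u' j ∘ Fin.cast (hl j)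
  have hu : Tup hS ε u := fun j =>
    cast_adm (e := fun t => F.presheaf.stalkSpecializes (hS.le j.1 j.2).2 (u' j t)) (hl j) (hu' j).1 (hu' j).2
  refine ⟨u, hu, ?_⟩
  have hk : ∀ j : {ξ // ξ ∈ S}, Cyc.ordAt x j.1 (hS.le j.1 j.2).2
      (ratio (F.presheaf.stalkSpecializes (hS.le j.1 j.2).2 ∘ u' j) (ε' j.1).2) =
      Cyc.ordAt x j.1 (hS.le j.1 j.2).2 (ratio (F.presheaf.stalkSpecializes (hS.le j.1 j.2).2 ∘ u j) (ε j.1).2) +
      Cyc.ordAt x j.1 (hS.le j.1 j.2).2 (change hε hε' ⟨j.1, (hS.le j.1 j.2).1, hS0 j.1 j.2⟩) := fun j => by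
    obtain ⟨e1, n1⟩ := ratio_spec (hε j.1 (hS.le j.1 j.2).1).1 (hε j.1 (hS.le j.1 j.2).1).2.1
      (hε j.1 (hS.le j.1 j.2).1).2.2 (hu j).1 (hu j).2
    obtain ⟨c1, c2⟩ := change_spec hε hε' ⟨j.1, (hS.le j.1 j.2).1, hS0 j.1 j.2⟩
    obtain ⟨hA, hSt⟩ := cast_adm (hl j) (hε' j.1 (hS.le j.1 j.2).1).2.1 (hε' j.1 (hS.le j.1 j.2).1).2.2
    rw [c1, smul_smul] at e1
    have e2 := ratio_unique (hε j.1 (hS.le j.1 j.2).1).1 hA hSt e1
    rw [cast_ratio (hl j)]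
    refine (congrArg (Cyc.ordAt x j.1 _) e2).trans ?_
    exact CycLib.ordAt_mul hd (hS.le j.1 j.2).2 (by rw [(hS.le j.1 j.2).1, hx]) n1 c2
  have ht : ∀ j, total (qS hS j) (u j) = total (qS hS j) (u' j) := fun j => cast_total (qS hS j) (hl j) (u' j)
  simp only [valAt, chi, ht]
  rw [Finset.sum_congr rfl fun j _ => hk j, Finset.sum_add_distrib]
  ring

/-- Changing the tuples changes the cycle by a sum of divisors. -/
theorem sVal_sub_mem (hd : Cyc.IsDimFun X δ) (hF : Cyc.CohLe δ (k + 1) F) {ε ε' : Fr F} (hε : IsFr δ k ε)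
    (hε' : IsFr δ k ε') : sVal δ k F ε' - sVal δ k F ε ∈ ratSub δ k := by
  classical
  refine ⟨Idx δ k F, fun i => i.1, fun i => (change hε hε' i)⁻¹, fun _ =>
    ⟨fun i => i.2.1, fun i => inv_ne_zero (change_spec hε hε' i).2, lf_idx hd hF, fun x => ?_⟩⟩
  by_cases hx : δ x = k
  swap
  · rw [Pi.sub_apply, sVal_of_ne hx, sVal_of_ne hx, sub_zero, finsum_eq_zero_of_forall_eq_zero]
    exact fun i => CycLib.divFun_eq_zero_of_delta δ _ (by rw [i.2.1]; omega)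
  let hfin := finite_pts hd hF x
  have hS : GoodSet δ k F x hfin.toFinset := ⟨fun ξ hξ => hfin.mem_toFinset.2 hξ, fun ξ hξ =>
    ⟨(hfin.mem_toFinset.1 hξ).1, (hfin.mem_toFinset.1 hξ).2.1⟩⟩
  have hle : ∀ ξ ∈ hfin.toFinset, δ ξ = k + 1 ∧ ξ ⤳ x ∧ Nontrivial (F.presheaf.stalk ξ) := fun ξ hξ =>
    hfin.mem_toFinset.1 hξ
  obtain ⟨u', hu'⟩ := exists_tup hF.1.1 hS hε'
  obtain ⟨u, hu, e⟩ := valAt_change hd hx hS (fun ξ hξ => (hle ξ hξ).2.2) hε hε' hu'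
  rw [Pi.sub_apply, sVal_eq hd hF hx hε' hS hu', sVal_eq hd hF hx hε hS hu, e, ← Finset.sum_neg_distrib,
    finsum_eq_sum_of_support_subset _ (s := Finset.univ.image fun j : {ξ // ξ ∈ hfin.toFinset} =>
      (⟨j.1, (hle _ j.2).1, (hle _ j.2).2.2⟩ : Idx δ k F)) (fun i hi => by
    have hsp : i.1 ⤳ x := by
      by_contra hc
      exact hi (CycLib.divFun_eq_zero_of_not_specializes δ _ hc)
    exact Finset.mem_coe.2 (Finset.mem_image.2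
      ⟨⟨i.1, hfin.mem_toFinset.2 ⟨i.2.1, hsp, i.2.2⟩⟩, Finset.mem_univ _, rfl⟩)),
    Finset.sum_image]
  swap
  · exact fun a _ b _ hab => Subtype.ext (congrArg (fun z : Idx δ k F => z.1) hab)
  refine Finset.sum_congr rfl fun j _ => ?_
  obtain ⟨hξ, h⟩ := hS.le j.1 j.2
  rw [CycLib.divFun_eq δ _ h (by rw [hξ, hx]), CycLib.ordAt_inv hd h (by rw [hξ, hx]) (change_spec hε hε' _).2]

/-- The tuples of the middle term of an exact sequence. -/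
theorem exists_add (hd : Cyc.IsDimFun X δ) {T : ShortComplex X.Modules} (hT : T.ShortExact)
    (h₁ : Cyc.CohLe δ (k + 1) T.X₁) (h₂ : Cyc.CohLe δ (k + 1) T.X₂) (h₃ : Cyc.CohLe δ (k + 1) T.X₃)
    {ε₁ : Fr T.X₁} (hε₁ : IsFr δ k ε₁) {ε₃ : Fr T.X₃} (hε₃ : IsFr δ k ε₃) :
    ∃ ε₂ : Fr T.X₂, IsFr δ k ε₂ ∧ sVal δ k T.X₂ ε₂ = sVal δ k T.X₁ ε₁ + sVal δ k T.X₃ ε₃ := by
  classical
  haveI := hT.mono_f
  haveI := hT.epi_g
  have hfg : ∀ y, LinearMap.range (sl T.f y) = LinearMap.ker (sl T.g y) := fun y =>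
    (LinearMap.exact_iff.1 (sl_exact hT.exact y)).symm
  let ε₂ : Fr T.X₂ := fun ξ => ⟨(ε₁ ξ).1 + (ε₃ ξ).1, glue (sl T.f ξ) (sl_surjective T.g ξ) (ε₁ ξ).2 (ε₃ ξ).2⟩
  have hlen : ∀ ξ, δ ξ = k + 1 → Module.length (X.presheaf.stalk ξ) (T.X₂.presheaf.stalk ξ) =
      (((ε₁ ξ).1 + (ε₃ ξ).1 : ℕ) : ℕ∞) := fun ξ hξ => by
    rw [length_stalk hT ξ, (hε₁ ξ hξ).1, (hε₃ ξ hξ).1, Nat.cast_add]
  have hε₂ : IsFr δ k ε₂ := fun ξ hξ => by
    obtain ⟨n1, a1, s1⟩ := hε₁ ξ hξ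
    obtain ⟨n3, a3, s3⟩ := hε₃ ξ hξ
    have hK := (strict_iff_span a1 n1).mp s1
    have hadm := glue_adm (hg := sl_surjective T.g ξ) (hfg ξ) hK a1 a3
    exact ⟨hlen ξ hξ, hadm, (strict_iff_span hadm (hlen ξ hξ)).mpr
      (glue_span (hfg ξ) hK ((strict_iff_span a3 n3).mp s3))⟩
  refine ⟨ε₂, hε₂, funext fun x => ?_⟩
  by_cases hx : δ x = k
  swap
  · rw [Pi.add_apply, sVal_of_ne hx, sVal_of_ne hx, sVal_of_ne hx, add_zero]
  rw [Pi.add_apply]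
  let hfin := finite_pts hd h₂ x
  have hle : ∀ ξ ∈ hfin.toFinset, δ ξ = k + 1 ∧ ξ ⤳ x := fun ξ hξ =>
    ⟨(hfin.mem_toFinset.1 hξ).1, (hfin.mem_toFinset.1 hξ).2.1⟩
  have hS₂ : GoodSet δ k T.X₂ x hfin.toFinset := ⟨fun ξ hξ => hfin.mem_toFinset.2 hξ, hle⟩
  have hS₁ : GoodSet δ k T.X₁ x hfin.toFinset :=
    ⟨fun ξ hξ => hfin.mem_toFinset.2 ⟨hξ.1, hξ.2.1, nontrivial_of_injective T.f hξ.2.2⟩, hle⟩
  have hS₃ : GoodSet δ k T.X₃ x hfin.toFinset :=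
    ⟨fun ξ hξ => hfin.mem_toFinset.2 ⟨hξ.1, hξ.2.1, nontrivial_of_surjective T.g hξ.2.2⟩, hle⟩
  obtain ⟨u₁, hu₁⟩ := exists_tup h₁.1.1 hS₁ hε₁
  obtain ⟨u₃, hu₃⟩ := exists_tup h₃.1.1 hS₃ hε₃
  let u₂ : ∀ i : {ξ // ξ ∈ hfin.toFinset}, Fin (ε₂ i.1).1 → T.X₂.presheaf.stalk x := fun i =>
    cat (sl T.f x) (sl_surjective T.g x) (u₁ i) (u₃ i)
  have hq : ∀ {M : X.Modules} (hM : GoodSet δ k M x hfin.toFinset) (i : {ξ // ξ ∈ hfin.toFinset}),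
      qS hM i = qS hS₂ i := fun hM i => rfl
  have hspan₁ : ∀ i, Submodule.span (Rq (qS hS₂ i)) (Set.range (loc (qS hS₂ i) (u₁ i))) = ⊤ := fun i => by
    have hl := (loc_length h₁.1.1 (hle i.1 i.2).2).trans (hε₁ i.1 (hle i.1 i.2).1).1
    exact (strict_iff_span ((loc_iff h₁.1.1 _ _).1.mpr (hu₁ i).1) hl).mp ((loc_iff h₁.1.1 _ _).2.mpr (hu₁ i).2)
  have hu₂ : Tup hS₂ ε₂ u₂ := fun i => by
    obtain ⟨p, q⟩ := cat_adm_strict (qS hS₂ i) (sl_injective T.f x) (hfg x) (sl_surjective T.g x)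
      ((loc_iff h₁.1.1 _ _).1.mpr (hu₁ i).1) ((loc_iff h₁.1.1 _ _).2.mpr (hu₁ i).2) (hspan₁ i)
      ((loc_iff h₃.1.1 _ _).1.mpr (hu₃ i).1) ((loc_iff h₃.1.1 _ _).2.mpr (hu₃ i).2)
    exact ⟨(loc_iff h₂.1.1 _ _).1.mp p, (loc_iff h₂.1.1 _ _).2.mp q⟩
  rw [sVal_eq hd h₂ hx hε₂ hS₂ hu₂, sVal_eq hd h₁ hx hε₁ hS₁ hu₁, sVal_eq hd h₃ hx hε₃ hS₃ hu₃]
  haveI := finite_stalk h₂.1 x
  have hchi : chi (qS hS₂) (T.X₂.presheaf.stalk x) u₂ =
      chi (qS hS₁) (T.X₁.presheaf.stalk x) u₁ + chi (qS hS₃) (T.X₃.presheaf.stalk x) u₃ :=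
    chi_add (sl_injective T.f x) (hfg x) (sl_surjective T.g x) (cover hd h₂ hx hS₂) u₁ u₃
      (fun i => (loc_iff h₁.1.1 _ _).1.mpr (hu₁ i).1) hspan₁ (fun i => (loc_iff h₃.1.1 _ _).1.mpr (hu₃ i).1)
  simp only [valAt]
  rw [hchi, ← add_sub_add_comm, ← Finset.sum_add_distrib]
  congr 1
  refine Finset.sum_congr rfl fun i _ => ?_
  obtain ⟨hξ, h⟩ := hle i.1 i.2
  obtain ⟨n1, a1, s1⟩ := hε₁ i.1 hξ
  obtain ⟨n3, a3, s3⟩ := hε₃ i.1 hξ
  obtain ⟨-, a2, s2⟩ := hε₂ i.1 hξ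
  obtain ⟨c1, z1⟩ := ratio_spec n1 a1 s1 (hu₁ i).1 (hu₁ i).2
  obtain ⟨c3, z3⟩ := ratio_spec n3 a3 s3 (hu₃ i).1 (hu₃ i).2
  obtain ⟨γ, hγ⟩ := exists_gamma (f := sl T.f i.1) (g := sl T.g i.1) rfl n1 n3 (hlen i.1 hξ) (hfg i.1)
    (sl_surjective T.g i.1)
  have g1 := hγ ⟨_, (hu₁ i).1⟩ ⟨_, (hu₃ i).1⟩ ⟨_, (hu₂ i).1⟩ (cls_ne_zero n1 _ (hu₁ i).2)
    (fun j => by
      show T.X₂.presheaf.stalkSpecializes h (u₂ i (Fin.castAdd _ j)) = _
      rw [show u₂ i (Fin.castAdd _ j) = sl T.f x (u₁ i j) from glue_left _, sl_spec]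
      rfl)
    (fun j => by
      show sl T.g i.1 (T.X₂.presheaf.stalkSpecializes h (u₂ i (Fin.natAdd _ j))) = _
      rw [← sl_spec, show sl T.g x (u₂ i (Fin.natAdd _ j)) = u₃ i j from glue_right _]
      rfl)
  have g0 := hγ ⟨_, a1⟩ ⟨_, a3⟩ ⟨_, a2⟩ (cls_ne_zero n1 _ s1) (fun j => by simp [ε₂, glue_left]) (fun j => by simp [ε₂, glue_right])
  rw [← clsT_adm, ← clsT_adm, ← clsT_adm] at g1 g0
  rw [c1, c3, TensorProduct.smul_tmul_smul, map_smul] at g1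
  erw [g0] at g1
  rw [ratio_unique (hlen i.1 hξ) a2 s2 g1.symm, CycLib.ordAt_mul hd h (by rw [hξ, hx]) z1 z3]

theorem sVal_small (hd : Cyc.IsDimFun X δ) (hF : Cyc.CohLe δ k F) {ε : Fr F} (hε : IsFr δ k ε) :
    sVal δ k F ε = Cyc.sheafFun δ k F := funext fun x => by
  classical
  by_cases hx : δ x = k
  swap
  · rw [sVal_of_ne hx]; simp [Cyc.sheafFun, hx]
  have hS : GoodSet δ k F x ∅ := ⟨fun ξ ⟨hξ, _, hn⟩ => absurd (hF.2 ξ hn) (by omega), fun ξ h => by simp at h⟩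
  haveI := finite_stalk hF.1 x
  rw [sVal_eq hd (cohLe_of_le (by omega) hF) hx hε hS (u := fun i => (Finset.notMem_empty _ i.2).elim)
    fun i => (Finset.notMem_empty _ i.2).elim]
  haveI : IsEmpty {ξ // ξ ∈ (∅ : Finset X)} := ⟨fun i => Finset.notMem_empty _ i.2⟩
  simp only [valAt, chi, Cyc.sheafFun, if_pos hx, Fintype.sum_empty, add_zero, sub_zero]
  exact eul_small fun i => isEmptyElim i

/-- **The cycle class.** -/
theorem exists_class (hd : Cyc.IsDimFun X δ) :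
    ∃ ψ : Cyc.K0CohQuot δ (k + 1) (k - 1) →+ (X → ℤ) ⧸ ratSub δ k,
      ∀ F, Cyc.CohLe δ k F → ψ (Cyc.toK0CohQuot δ (k + 1) (k - 1) F) = QuotientAddGroup.mk (Cyc.sheafFun δ k F) := by
  classical
  let φ : X.Modules → (X → ℤ) ⧸ ratSub δ k := fun F =>
    if h : Cyc.CohLe δ (k + 1) F then QuotientAddGroup.mk (sVal δ k F (exists_fr hd h).choose) else 0
  have hφ : ∀ F, Cyc.CohLe δ (k + 1) F → ∀ ε : Fr F, IsFr δ k ε →
      φ F = QuotientAddGroup.mk (sVal δ k F ε) := fun F h ε hε => by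
    simp only [φ, dif_pos h]
    rw [QuotientAddGroup.eq_iff_sub_mem]
    exact sVal_sub_mem hd h hε (exists_fr hd h).choose_spec
  obtain ⟨ψ, hψ⟩ := CycK.exists_hom φ (fun T hT h₁ h₂ h₃ => by
    obtain ⟨ε₁, hε₁⟩ := exists_fr hd h₁
    obtain ⟨ε₃, hε₃⟩ := exists_fr hd h₃
    obtain ⟨ε₂, hε₂, e⟩ := exists_add hd hT h₁ h₂ h₃ hε₁ hε₃
    rw [hφ _ h₁ ε₁ hε₁, hφ _ h₂ ε₂ hε₂, hφ _ h₃ ε₃ hε₃, e, QuotientAddGroup.mk_add])
    (fun G hG hb => by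
      obtain ⟨ε, hε⟩ := exists_fr hd hG
      rw [hφ G hG ε hε, sVal_small hd (cohLe_of_le (show k - 1 ≤ k by omega) hb) hε,
        show Cyc.sheafFun δ k G = 0 from funext fun x => ?_, QuotientAddGroup.mk_zero]
      by_cases hx : δ x = k
      · simp only [Cyc.sheafFun, if_pos hx, Pi.zero_apply]
        haveI := subsingleton_stalk_of hb (x := x) (by omega)
        rw [Module.length_eq_zero_iff.2 inferInstance]; rfl
      · simp [Cyc.sheafFun, hx])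
  refine ⟨ψ, fun G hG => ?_⟩
  obtain ⟨ε, hε⟩ := exists_fr hd (cohLe_of_le (show k ≤ k + 1 by omega) hG)
  rw [hψ G (cohLe_of_le (by omega) hG), hφ G (cohLe_of_le (by omega) hG) ε hε, sVal_small hd hG hε]

end Groth.Agent.CycK.Chi
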