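import Groth.Agent.CycK.Chi.Tot
import Groth.Agent.CycLib.Periodic

/-! The index of a module along finitely many one-dimensional primes. -/

set_option linter.unusedSectionVars false

namespace Groth.Agent.CycK.Chi

open CycDet IsLocalRing IntThLib CycAlg
open Groth.Agent.CycLib Groth.Agent.CycLib.Ratio

universe u

variable {R : Type u} [CommRing R] [IsNoetherianRing R] [IsLocalRing R] {ι : Type u} [Fintype ι]
  (q : ι → PrimeSpectrum R) {A B C M : Type u} [AddCommGroup A] [Module R A] [AddCommGroup B] [Module R B]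
  [AddCommGroup C] [Module R C] [AddCommGroup M] [Module R M]

/-- The kernel of localisation. -/
noncomputable abbrev kerLoc (i : ι) (M : Type u) [AddCommGroup M] [Module R M] : Submodule R M :=
  LinearMap.ker (LocalizedModule.mkLinearMap (q i).asIdeal.primeCompl M)

/-- The map to the images in all the localisations. -/
noncomputable def theta (M : Type u) [AddCommGroup M] [Module R M] : M →ₗ[R] ∀ i, M ⧸ kerLoc q i M :=
  LinearMap.pi fun i => (kerLoc q i M).mkQ

/-- The Euler characteristic of that map. -/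
noncomputable def eul (M : Type u) [AddCommGroup M] [Module R M] : ℤ :=
  herbrand R (theta q M) (0 : (∀ i, M ⧸ kerLoc q i M) →ₗ[R] M)

/-- The primes exhaust the non-closed support. -/
structure Cover (M : Type u) [AddCommGroup M] [Module R M] : Prop where
  inj : Function.Injective q
  ne : ∀ i, q i ≠ closedPoint R
  dim : ∀ i p, q i ≤ p → p = q i ∨ p = closedPoint R
  supp : ∀ p ∈ Module.support R M, p = closedPoint R ∨ ∃ i, p = q i
  min : ∀ i, ∀ p ∈ Module.support R M, p ≤ q i → p = q i

variable {q}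

theorem Cover.of_injective {f : A →ₗ[R] B} (hf : Function.Injective f) (h : Cover q B) : Cover q A :=
  { h with
    supp := fun p hp => h.supp p (Module.support_subset_of_injective f hf hp)
    min := fun i p hp => h.min i p (Module.support_subset_of_injective f hf hp) }

theorem Cover.of_surjective {g : B →ₗ[R] C} (hg : Function.Surjective g) (h : Cover q B) : Cover q C :=
  { h with
    supp := fun p hp => h.supp p (Module.support_subset_of_surjective g hg hp)
    min := fun i p hp => h.min i p (Module.support_subset_of_surjective g hg hp) }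

theorem length_perH_left {P : Type u} [AddCommGroup P] [Module R P] (φ : M →ₗ[R] P) :
    Module.length R (perH φ (0 : P →ₗ[R] M)) = Module.length R (LinearMap.ker φ) := by
  refine ((Submodule.quotEquivOfEqBot _ ?_)).length_eq
  rw [LinearMap.range_zero, Submodule.submoduleOf, Submodule.comap_bot, Submodule.ker_subtype]

theorem length_perH_right {P : Type u} [AddCommGroup P] [Module R P] (φ : M →ₗ[R] P) :
    Module.length R (perH (0 : P →ₗ[R] M) φ) = Module.length R (P ⧸ LinearMap.range φ) := by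
  refine (Submodule.Quotient.equiv _ _ ((LinearEquiv.ofEq _ _ LinearMap.ker_zero).trans Submodule.topEquiv) ?_).length_eq
  ext z
  rw [Submodule.mem_map]
  exact ⟨fun ⟨w, hw, e⟩ => e ▸ hw, fun hz => ⟨⟨z, rfl⟩, hz, rfl⟩⟩

theorem mem_kerLoc {i : ι} {m : M} : m ∈ kerLoc q i M ↔ ∃ s : R, s ∉ (q i).asIdeal ∧ s • m = 0 := by
  rw [LinearMap.mem_ker, IsLocalizedModule.eq_zero_iff (q i).asIdeal.primeCompl]
  exact ⟨fun ⟨s, hs⟩ => ⟨s, s.2, hs⟩, fun ⟨s, h, hs⟩ => ⟨⟨s, h⟩, hs⟩⟩

/-- The support of the image in a localisation. -/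
theorem support_image (h : Cover q M) {i : ι} [Module.Finite R M] {p : PrimeSpectrum R}
    (hp : p ∈ Module.support R (M ⧸ kerLoc q i M)) : q i ≤ p := by
  intro r hr
  by_contra hrp
  refine (Module.mem_support_iff'.mp hp).elim fun w hw => ?_
  obtain ⟨m, rfl⟩ := Submodule.Quotient.mk_surjective _ w
  have hnil : ∃ n : ℕ, r ^ n • m ∈ kerLoc q i M := by
    suffices ∃ n : ℕ, algebraMap R (Rq (q i)) r ^ n • LocalizedModule.mkLinearMap (q i).asIdeal.primeCompl M m = 0 by
      obtain ⟨n, hn⟩ := this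
      refine ⟨n, ?_⟩
      rw [LinearMap.mem_ker, map_smul, ← algebraMap_smul (Rq (q i)), map_pow, hn]
    have hfl : IsFiniteLength (Rq (q i)) (Vq (q i) M) :=
      Module.length_ne_top_iff.mp (CycLib.length_localized_ne_top_of_minimal (q i) fun p hp hle => h.min i p hp hle)
    obtain ⟨hnoe, hart⟩ := isFiniteLength_iff_isNoetherian_isArtinian.mp hfl
    haveI := hnoe; haveI := hart
    set c := algebraMap R (Rq (q i)) r
    obtain ⟨n, hn⟩ := IsArtinian.monotone_stabilizes
      (⟨fun k => OrderDual.toDual ((Ideal.span {c}) ^ k • (⊤ : Submodule (Rq (q i)) (Vq (q i) M))), fun a b hab =>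
        Submodule.smul_mono_left (Ideal.pow_le_pow_right hab)⟩ : ℕ →o (Submodule (Rq (q i)) (Vq (q i) M))ᵒᵈ)
    have hN : ((Ideal.span {c}) ^ n • (⊤ : Submodule (Rq (q i)) (Vq (q i) M))) ≤
        Ideal.span {c} • ((Ideal.span {c}) ^ n • (⊤ : Submodule (Rq (q i)) (Vq (q i) M))) := by
      rw [← Submodule.smul_assoc, Ideal.smul_eq_mul, ← pow_succ']
      exact (OrderDual.toDual.injective (hn (n + 1) n.le_succ)).le
    have h0 := Submodule.eq_bot_of_le_smul_of_le_jacobson_bot (Ideal.span {c}) _ (IsNoetherian.noetherian _) hN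
      (by rw [IsLocalRing.jacobson_eq_maximalIdeal ⊥ bot_ne_top]
          exact (Ideal.span_singleton_le_iff_mem _).2 ((alg_mem_max (q i)).mpr hr))
    refine ⟨n, ?_⟩
    have : c ^ n • LocalizedModule.mkLinearMap (q i).asIdeal.primeCompl M m ∈
        (Ideal.span {c}) ^ n • (⊤ : Submodule (Rq (q i)) (Vq (q i) M)) :=
      Submodule.smul_mem_smul (Ideal.pow_mem_pow (Ideal.mem_span_singleton_self c) n) trivial
    rwa [h0, Submodule.mem_bot] at this
  obtain ⟨n, hn⟩ := hnil
  refine hw (r ^ n) (fun hmem => hrp (p.2.mem_of_pow_mem n hmem)) ?_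
  rw [← Submodule.Quotient.mk_smul, Submodule.Quotient.mk_eq_zero]
  exact hn

theorem finCoh_theta [Module.Finite R M] (h : Cover q M) :
    FinCoh R (theta q M) (0 : (∀ i, M ⧸ kerLoc q i M) →ₗ[R] M) := by
  classical
  constructor
  · rw [length_perH_left]
    refine lt_top_iff_ne_top.mpr (CycLib.length_ne_top_of_support fun p hp => ?_)
    refine (h.supp p (Module.support_subset_of_injective _ (Submodule.injective_subtype _) hp)).resolve_right
      fun ⟨i, e⟩ => ?_
    subst e
    refine Module.notMem_support_iff'.mpr (fun ⟨m, hm⟩ => ?_) hp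
    obtain ⟨s, hs, hsm⟩ := mem_kerLoc.mp ((Submodule.Quotient.mk_eq_zero _).mp (congrFun hm i :))
    exact ⟨s, hs, Subtype.ext hsm⟩
  · rw [length_perH_right]
    refine lt_top_iff_ne_top.mpr (CycLib.length_ne_top_of_support fun p hp => ?_)
    by_contra hne
    obtain ⟨i, hi⟩ : ∃ i, p = q i := by
      by_contra hc
      push Not at hc
      refine Module.notMem_support_iff.mpr ?_ (Module.support_subset_of_surjective _ (Submodule.mkQ_surjective _) hp)
      rw [← not_nontrivial_iff_subsingleton, ← Module.mem_support_iff]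
      intro hp'
      rw [Module.mem_support_iff_exists_annihilator] at hp'
      obtain ⟨z, hz⟩ := hp'
      have : ∀ j, ∃ s : R, s ∉ p.asIdeal ∧ s • z j = 0 := fun j => by
        have hj : p ∉ Module.support R (M ⧸ kerLoc q j M) := fun hj => by
          rcases h.dim j p (support_image h hj) with e | e
          · exact hc j e
          · exact hne e
        exact Module.notMem_support_iff'.mp hj (z j)
      choose s hs hsz using this
      exfalso
      have hprod : ∏ j, s j ∉ p.asIdeal := fun hm => by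
        obtain ⟨j, -, hj⟩ := (Ideal.IsPrime.prod_mem_iff).mp hm
        exact hs j hj
      refine hprod (hz (Submodule.mem_annihilator_span_singleton _ _ |>.mpr (funext fun j => ?_)))
      rw [Pi.smul_apply, ← Finset.prod_erase_mul _ _ (Finset.mem_univ j), mul_smul, hsz, smul_zero, Pi.zero_apply]
    subst hi
    refine Module.notMem_support_iff'.mpr (fun w => ?_) hp
    obtain ⟨z, rfl⟩ := Submodule.Quotient.mk_surjective _ w
    obtain ⟨m, hm⟩ := Submodule.Quotient.mk_surjective _ (z i)
    have hsep : ∀ j, j ≠ i → ∃ s : R, s ∉ (q i).asIdeal ∧ s • (z j - Submodule.Quotient.mk m) = 0 := fun j hj => by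
      have hn : q i ∉ Module.support R (M ⧸ kerLoc q j M) := fun hh => by
        rcases h.dim j (q i) (support_image h hh) with e | e
        · exact hj (h.inj e).symm
        · exact h.ne i e
      exact Module.notMem_support_iff'.mp hn _
    choose! s hs hsz using hsep
    refine ⟨∏ j ∈ Finset.univ.erase i, s j, fun hm => ?_, ?_⟩
    · obtain ⟨j, hj, hmem⟩ := (Ideal.IsPrime.prod_mem_iff).mp hm
      exact hs j (Finset.ne_of_mem_erase hj) hmem
    · rw [← Submodule.Quotient.mk_smul, Submodule.Quotient.mk_eq_zero]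
      refine ⟨(∏ j ∈ Finset.univ.erase i, s j) • m, funext fun j => ?_⟩
      show Submodule.Quotient.mk _ = (∏ j ∈ Finset.univ.erase i, s j) • z j
      rw [Submodule.Quotient.mk_smul]
      by_cases hj : j = i
      · subst hj; rw [hm]
      · rw [eq_comm, ← sub_eq_zero, ← smul_sub,
          ← Finset.prod_erase_mul _ _ (Finset.mem_erase.mpr ⟨hj, Finset.mem_univ j⟩), mul_smul, hsz j hj, smul_zero]

theorem herbrand_theta_zero {P : Type u} [AddCommGroup P] [Module R P] (φ : M →ₗ[R] P) :
    herbrand R φ (0 : P →ₗ[R] M) =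
      ((Module.length R (LinearMap.ker φ)).toNat : ℤ) - ((Module.length R (P ⧸ LinearMap.range φ)).toNat : ℤ) := by
  rw [herbrand, length_perH_left, length_perH_right]

variable (q) in
/-- The defect at one prime. -/
noncomputable def defect (f : A →ₗ[R] B) (g : B →ₗ[R] C) (i : ι) : ℕ∞ :=
  relLen R ((kerLoc q i C).comap g) (kerLoc q i B ⊔ LinearMap.range f)

theorem kerLoc_le (f : A →ₗ[R] B) (i : ι) : kerLoc q i A ≤ (kerLoc q i B).comap f := fun m hm => by
  obtain ⟨s, hs, e⟩ := mem_kerLoc.mp hm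
  exact mem_kerLoc.mpr ⟨s, hs, by rw [← map_smul, e, map_zero]⟩

theorem length_coker_pi {Q P : ι → Type u} [∀ i, AddCommGroup (Q i)] [∀ i, Module R (Q i)]
    [∀ i, AddCommGroup (P i)] [∀ i, Module R (P i)] (φ : ∀ i, Q i →ₗ[R] P i) :
    Module.length R ((∀ i, P i) ⧸ LinearMap.range (LinearMap.pi fun i => φ i ∘ₗ LinearMap.proj i)) =
      ∑ i, Module.length R (P i ⧸ LinearMap.range (φ i)) := by
  let H : (∀ i, P i) →ₗ[R] ∀ i, P i ⧸ LinearMap.range (φ i) :=
    LinearMap.pi fun i => (LinearMap.range (φ i)).mkQ ∘ₗ LinearMap.proj i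
  have hH : Function.Surjective H := fun z => by
    choose w hw using fun i => Submodule.mkQ_surjective _ (z i)
    exact ⟨w, funext hw⟩
  have hr : LinearMap.range (LinearMap.pi fun i => φ i ∘ₗ LinearMap.proj i) = LinearMap.ker H := by
    ext z
    constructor
    · rintro ⟨w, rfl⟩
      exact funext fun i => (Submodule.Quotient.mk_eq_zero _).mpr (LinearMap.mem_range_self _ (w i))
    · intro hz
      choose w hw using fun i => LinearMap.mem_range.mp ((Submodule.Quotient.mk_eq_zero _).mp (congrFun hz i :))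
      exact ⟨w, funext hw⟩
  rw [((Submodule.quotEquivOfEq _ _ hr).trans (H.quotKerEquivOfSurjective hH)).length_eq, Module.length_pi_of_fintype]

/-- Composition with an injective map. -/
theorem herbrand_comp {P P' : Type u} [AddCommGroup P] [Module R P] [AddCommGroup P'] [Module R P']
    (θ : M →ₗ[R] P) (j : P →ₗ[R] P') (hj : Function.Injective j) (h : FinCoh R θ (0 : P →ₗ[R] M))
    (h' : FinCoh R (j ∘ₗ θ) (0 : P' →ₗ[R] M)) :
    Module.length R (P' ⧸ LinearMap.range j) < ⊤ ∧
      herbrand R (j ∘ₗ θ) (0 : P' →ₗ[R] M) =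
        herbrand R θ (0 : P →ₗ[R] M) - ((Module.length R (P' ⧸ LinearMap.range j)).toNat : ℤ) := by
  obtain ⟨-, -, h3, e2⟩ := Periodic.additive (R := R) (φ₁ := θ) (ψ₁ := 0) (φ₂ := j ∘ₗ θ) (ψ₂ := 0)
    (φ₃ := (0 : PUnit.{u + 1} →ₗ[R] (P' ⧸ LinearMap.range j))) (ψ₃ := 0)
    (f₁ := LinearMap.id) (g₁ := j) (f₂ := 0) (g₂ := (LinearMap.range j).mkQ)
    rfl (by simp) (LinearMap.ext fun a => by
      show (0 : P' ⧸ LinearMap.range j) = Submodule.Quotient.mk (j (θ a))
      exact ((Submodule.Quotient.mk_eq_zero _).mpr (LinearMap.mem_range_self j (θ a))).symm) (by simp)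
    ⟨by simp, by simp⟩ Function.injective_id hj
    (fun _ => ⟨0, Subsingleton.elim _ _⟩) (Submodule.mkQ_surjective _)
    (by rw [LinearMap.range_id, LinearMap.ker_zero]) (LinearMap.range j).ker_mkQ.symm (Or.inl ⟨h, h'⟩)
  have hp0 : Module.length R PUnit.{u + 1} = 0 := Module.length_eq_zero_iff.mpr inferInstance
  have hfin : Module.length R (P' ⧸ LinearMap.range j) < ⊤ := by
    have := h3.2
    rwa [length_perH_right, LinearMap.range_zero, (Submodule.quotEquivOfEqBot _ rfl).length_eq] at this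
  obtain ⟨-, e3⟩ := Periodic.of_finite_length (R := R)
    (φ := (0 : PUnit.{u + 1} →ₗ[R] (P' ⧸ LinearMap.range j))) (ψ := 0) ⟨by simp, by simp⟩
    (by rw [hp0]; exact lt_top_iff_ne_top.mpr ENat.zero_ne_top) hfin
  rw [hp0] at e3
  refine ⟨hfin, ?_⟩
  rw [e2, e3]
  simp
  ring

variable (q) in
/-- The induced map on images. -/
noncomputable def bar (f : A →ₗ[R] B) (i : ι) : (A ⧸ kerLoc q i A) →ₗ[R] (B ⧸ kerLoc q i B) :=
  Submodule.mapQ _ _ f (kerLoc_le f i)

theorem bar_comp {f : A →ₗ[R] B} {g : B →ₗ[R] C} (hfg : LinearMap.range f = LinearMap.ker g) (i : ι)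
    (z : A ⧸ kerLoc q i A) : bar q g i (bar q f i z) = 0 := by
  obtain ⟨z, rfl⟩ := Submodule.Quotient.mk_surjective _ z
  have : g (f z) = 0 := LinearMap.mem_ker.mp (hfg ▸ LinearMap.mem_range_self f z)
  rw [bar, bar, Submodule.mapQ_apply, Submodule.mapQ_apply, this, Submodule.Quotient.mk_zero]

theorem length_defect {f : A →ₗ[R] B} {g : B →ₗ[R] C} (hfg : LinearMap.range f = LinearMap.ker g) (i : ι) :
    Module.length R (↥(LinearMap.ker (bar q g i)) ⧸
      LinearMap.range ((bar q f i).codRestrict _ (bar_comp hfg i))) = defect q f g i := by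
  let h : ↥((kerLoc q i C).comap g) →ₗ[R] (↥(LinearMap.ker (bar q g i)) ⧸
      LinearMap.range ((bar q f i).codRestrict _ (bar_comp hfg i))) :=
    (LinearMap.range ((bar q f i).codRestrict _ (bar_comp hfg i))).mkQ ∘ₗ
      ((kerLoc q i B).mkQ ∘ₗ ((kerLoc q i C).comap g).subtype).codRestrict _ fun z => by
        show Submodule.Quotient.mk (g z.1) = 0
        exact (Submodule.Quotient.mk_eq_zero _).mpr z.2
  have hsurj : Function.Surjective h := fun w => by
    obtain ⟨⟨v, hv⟩, rfl⟩ := Submodule.mkQ_surjective _ w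
    obtain ⟨b, rfl⟩ := Submodule.Quotient.mk_surjective _ v
    exact ⟨⟨b, (Submodule.Quotient.mk_eq_zero (kerLoc q i C)).mp (show (Submodule.Quotient.mk (g b) : C ⧸ kerLoc q i C) = 0 from hv)⟩, rfl⟩
  refine (((Submodule.quotEquivOfEq _ _ ?_).trans (h.quotKerEquivOfSurjective hsurj))).length_eq.symm
  ext ⟨z, hz⟩
  show z ∈ kerLoc q i B ⊔ LinearMap.range f ↔ Submodule.Quotient.mk _ = 0
  rw [Submodule.Quotient.mk_eq_zero, LinearMap.mem_range]
  constructor
  · intro hz'
    obtain ⟨k, hk, t, ⟨a, rfl⟩, rfl⟩ := Submodule.mem_sup.mp hz'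
    refine ⟨Submodule.Quotient.mk a, Subtype.ext ((Submodule.Quotient.eq _).mpr ?_)⟩
    show f a - (k + f a) ∈ kerLoc q i B
    simpa using hk
  · rintro ⟨a, ha⟩
    obtain ⟨a, rfl⟩ := Submodule.Quotient.mk_surjective _ a
    have ha' : f a - z ∈ kerLoc q i B := (Submodule.Quotient.eq _).mp (congrArg Subtype.val ha)
    exact Submodule.mem_sup.mpr ⟨_, neg_mem ha', f a, ⟨a, rfl⟩, by abel⟩

theorem bar_injective {f : A →ₗ[R] B} (hf : Function.Injective f) (i : ι) : Function.Injective (bar q f i) :=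
  fun a b e => by
    obtain ⟨x, rfl⟩ := Submodule.Quotient.mk_surjective _ a
    obtain ⟨y, rfl⟩ := Submodule.Quotient.mk_surjective _ b
    rw [bar, Submodule.mapQ_apply, Submodule.mapQ_apply, Submodule.Quotient.eq, ← map_sub] at e
    rw [Submodule.Quotient.eq]
    obtain ⟨s, hs, e''⟩ := mem_kerLoc.mp e
    exact mem_kerLoc.mpr ⟨s, hs, hf (by rw [map_smul, e'', map_zero])⟩

theorem bar_surjective {g : B →ₗ[R] C} (hg : Function.Surjective g) (i : ι) : Function.Surjective (bar q g i) :=
  fun w => by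
    obtain ⟨w, rfl⟩ := Submodule.Quotient.mk_surjective _ w
    obtain ⟨b, rfl⟩ := hg w
    exact ⟨Submodule.Quotient.mk b, rfl⟩

/-- **The Euler characteristic along an exact sequence.** -/
theorem eul_add [Module.Finite R B] {f : A →ₗ[R] B} {g : B →ₗ[R] C} (hf : Function.Injective f)
    (hfg : LinearMap.range f = LinearMap.ker g) (hg : Function.Surjective g) (h : Cover q B) :
    (∀ i, defect q f g i < ⊤) ∧ eul q B = eul q A + eul q C - ∑ i, ((defect q f g i).toNat : ℤ) := by
  haveI : Module.Finite R C := Module.Finite.of_surjective g hg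
  haveI : Module.Finite R A := Module.Finite.of_injective f hf
  have hA := finCoh_theta (M := A) (h.of_injective hf)
  have hB := finCoh_theta (M := B) h
  have hC := finCoh_theta (M := C) (h.of_surjective hg)
  let j : (∀ i, A ⧸ kerLoc q i A) →ₗ[R] ∀ i, LinearMap.ker (bar q g i) :=
    LinearMap.pi fun i => ((bar q f i).codRestrict _ (bar_comp hfg i)) ∘ₗ LinearMap.proj i
  let incl : (∀ i, LinearMap.ker (bar q g i)) →ₗ[R] ∀ i, B ⧸ kerLoc q i B :=
    LinearMap.pi fun i => (LinearMap.ker (bar q g i)).subtype ∘ₗ LinearMap.proj i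
  let G : (∀ i, B ⧸ kerLoc q i B) →ₗ[R] ∀ i, C ⧸ kerLoc q i C := LinearMap.pi fun i => bar q g i ∘ₗ LinearMap.proj i
  obtain ⟨h', -, -, e1⟩ := Periodic.additive (R := R) (φ₁ := j ∘ₗ theta q A) (ψ₁ := 0) (φ₂ := theta q B) (ψ₂ := 0)
    (φ₃ := theta q C) (ψ₃ := 0) (f₁ := f) (g₁ := incl) (f₂ := g) (g₂ := G)
    (LinearMap.ext fun a => funext fun i => rfl) (by simp) (LinearMap.ext fun b => funext fun i => rfl) (by simp)
    ⟨by simp, by simp⟩ hf (fun a b e => funext fun i => Subtype.ext (congrFun e i :)) hg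
    (fun c => by
      choose z hz using fun i => bar_surjective (q := q) hg i (c i)
      exact ⟨z, funext hz⟩)
    hfg (by
      refine le_antisymm ?_ fun z hz => ⟨fun i => ⟨z i, congrFun hz i⟩, rfl⟩
      rintro _ ⟨w, rfl⟩
      exact funext fun i => (w i).2)
    (Or.inr (Or.inr ⟨hB, hC⟩))
  obtain ⟨hfin, e2⟩ := herbrand_comp (theta q A) j
    (fun a b e => funext fun i => bar_injective hf i (congrArg Subtype.val (congrFun e i :))) hA h'
  have h3len : Module.length R ((∀ i, LinearMap.ker (bar q g i)) ⧸ LinearMap.range j) = ∑ i, defect q f g i :=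
    (length_coker_pi _).trans (Finset.sum_congr rfl fun i _ => length_defect hfg i)
  have hdf : ∀ i ∈ Finset.univ, defect q f g i ≠ ⊤ := WithTop.sum_ne_top.mp (h3len ▸ hfin.ne :)
  refine ⟨fun i => lt_top_iff_ne_top.mpr (hdf i (Finset.mem_univ i)), ?_⟩
  rw [h3len, ENat.toNat_sum hdf] at e2
  rw [eul, e1, e2, eul, eul]
  push_cast
  ring

theorem eul_small [Module.Finite R M] (h : ∀ i, q i ∉ Module.support R M) :
    eul q M = ((Module.length R M).toNat : ℤ) := by
  have hk : ∀ i, kerLoc q i M = ⊤ := fun i => eq_top_iff.mpr fun m _ =>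
    mem_kerLoc.mpr (Module.notMem_support_iff'.mp (h i) m)
  haveI : ∀ i, Subsingleton (M ⧸ kerLoc q i M) := fun i => by
    rw [hk i]; infer_instance
  haveI : Subsingleton ((∀ i, M ⧸ kerLoc q i M) ⧸ LinearMap.range (theta q M)) :=
    (Submodule.mkQ_surjective _).subsingleton
  rw [eul, herbrand_theta_zero, Module.length_eq_zero_iff.mpr ‹Subsingleton ((∀ i, M ⧸ kerLoc q i M) ⧸ _)›,
    (LinearEquiv.ofTop _ (LinearMap.ker_eq_top.mpr (LinearMap.ext fun m => Subsingleton.elim _ _))).length_eq]
  simp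

/-- **The index of a module with tuples.** -/
noncomputable def chi (q : ι → PrimeSpectrum R) (M : Type u) [AddCommGroup M] [Module R M] {l : ι → ℕ}
    (u : ∀ i, Fin (l i) → M) : ℤ :=
  eul q M + ∑ i, ((total (q i) (u i)).toNat : ℤ)

theorem chi_add [Module.Finite R B] {f : A →ₗ[R] B} {g : B →ₗ[R] C} (hf : Function.Injective f)
    (hfg : LinearMap.range f = LinearMap.ker g) (hg : Function.Surjective g) (h : Cover q B)
    {a b : ι → ℕ} (uA : ∀ i, Fin (a i) → A) (uC : ∀ i, Fin (b i) → C)
    (hA : ∀ i, IsAdmissible (Rq (q i)) (Vq (q i) A) (loc (q i) (uA i)))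
    (hAs : ∀ i, Submodule.span (Rq (q i)) (Set.range (loc (q i) (uA i))) = ⊤)
    (hC : ∀ i, IsAdmissible (Rq (q i)) (Vq (q i) C) (loc (q i) (uC i))) :
    chi q B (fun i => cat f hg (uA i) (uC i)) = chi q A uA + chi q C uC := by
  haveI : Module.Finite R C := Module.Finite.of_surjective g hg
  haveI : Module.Finite R A := Module.Finite.of_injective f hf
  obtain ⟨hd, e⟩ := eul_add hf hfg hg h
  have ht : ∀ i, ((total (q i) (cat f hg (uA i) (uC i))).toNat : ℤ) =
      ((total (q i) (uA i)).toNat : ℤ) + ((total (q i) (uC i)).toNat : ℤ) + ((defect q f g i).toNat : ℤ) := fun i => by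
    have t1 := (total_lt_top (q i) (h.dim i) (hA i)).ne
    have t2 := (total_lt_top (q i) (h.dim i) (hC i)).ne
    rw [total_cat (q i) hf hfg hg (hAs i), ← defect, ENat.toNat_add (m := total (q i) (uA i) + total (q i) (uC i)) (WithTop.add_ne_top.mpr ⟨t1, t2⟩) (hd i).ne,
      ENat.toNat_add t1 t2]
    push_cast; rfl
  simp only [chi]
  rw [e, Finset.sum_congr rfl fun i _ => ht i, Finset.sum_add_distrib, Finset.sum_add_distrib]
  ring

end Groth.Agent.CycK.Chi
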