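import Groth.Agent.CycLib.Det

/-! Transfer of symbols along a semilinear isomorphism. -/

set_option linter.unusedSectionVars false

namespace Groth.Agent.CycK.Chi

open CycDet IsLocalRing
open Groth.Agent.CycLib

universe u

variable {S S' : Type u} [CommRing S] [IsLocalRing S] [CommRing S'] [IsLocalRing S'] {V V' : Type u}
  [AddCommGroup V] [Module S V] [AddCommGroup V'] [Module S' V']

/-- A semilinear isomorphism. -/
structure Semi (ψ : S ≃+* S') (h : V ≃+ V') : Prop where
  smul : ∀ (c : S) (v : V), h (c • v) = ψ c • h v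

variable {ψ : S ≃+* S'} {h : V ≃+ V'} {n : ℕ}

theorem Semi.symm (H : Semi ψ h) : Semi ψ.symm h.symm :=
  ⟨fun c v => h.injective (by rw [H.smul, h.apply_symm_apply, ψ.apply_symm_apply, h.apply_symm_apply])⟩

theorem Semi.mem_span (H : Semi ψ h) (e : Fin n → V) (k : ℕ) {z : V} (hz : z ∈ spanBefore S V e k) :
    h z ∈ spanBefore S' V' (h ∘ e) k := by
  induction hz using Submodule.span_induction with
  | mem v hv => obtain ⟨j, hj, rfl⟩ := hv; exact mem_spanBefore (e := h ∘ e) hj
  | zero => rw [map_zero]; exact zero_mem _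
  | add v w _ _ hv hw => rw [map_add]; exact add_mem hv hw
  | smul c v _ hv => rw [H.smul]; exact Submodule.smul_mem _ _ hv

theorem Semi.mem_span_iff (H : Semi ψ h) (e : Fin n → V) (k : ℕ) (z : V) :
    h z ∈ spanBefore S' V' (h ∘ e) k ↔ z ∈ spanBefore S V e k := by
  refine ⟨fun hz => ?_, H.mem_span e k⟩
  have := H.symm.mem_span (h ∘ e) k hz
  rwa [h.symm_apply_apply, show (h.symm ∘ h ∘ e) = e from funext fun j => h.symm_apply_apply _] at this

theorem Semi.adm (H : Semi ψ h) {e : Fin n → V} (he : IsAdmissible S V e) : IsAdmissible S' V' (h ∘ e) := by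
  intro i r hr
  have hr' : ψ.symm r ∈ maximalIdeal S := fun hu => hr (by simpa using hu.map ψ)
  have := H.mem_span e i (he i _ hr')
  rwa [H.smul, ψ.apply_symm_apply] at this

theorem Semi.adm_iff (H : Semi ψ h) (e : Fin n → V) : IsAdmissible S' V' (h ∘ e) ↔ IsAdmissible S V e :=
  ⟨fun he => by
    have := H.symm.adm he
    rwa [show (h.symm ∘ h ∘ e) = e from funext fun j => h.symm_apply_apply _] at this, H.adm⟩

theorem Semi.strict_iff (H : Semi ψ h) (e : Fin n → V) : Strict S' (h ∘ e) ↔ Strict S e :=
  forall_congr' fun i => not_congr (H.mem_span_iff e i (e i))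

/-- The induced map of residue fields. -/
noncomputable def rmap (ψ : S ≃+* S') : ResidueField S →+* ResidueField S' :=
  haveI : IsLocalHom (ψ : S →+* S') := ⟨fun a ha => by simpa using ha.map ψ.symm⟩
  ResidueField.map (ψ : S →+* S')

theorem rmap_residue (ψ : S ≃+* S') (a : S) : rmap ψ (residue S a) = residue S' (ψ a) := rfl

/-- Proportional symbols stay proportional. -/
theorem Semi.clsT_smul (H : Semi ψ h) {e e' : Fin n → V} (r : ResidueField S)
    (he : clsT S e = r • clsT S e') : clsT S' (h ∘ e) = rmap ψ r • clsT S' (h ∘ e') := by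
  classical
  let F : Free S V n →ₛₗ[rmap ψ] DetOfLen S' V' n :=
    { toFun := fun x => x.sum fun a c => rmap ψ c • clsT S' (h ∘ a.1)
      map_add' := fun x y => Finsupp.sum_add_index (fun _ _ => by simp) fun a _ c d => by rw [map_add, add_smul]
      map_smul' := fun c x => by
        rw [Finsupp.sum_smul_index (fun a => by simp), Finsupp.smul_sum]
        exact Finsupp.sum_congr fun a _ => by rw [map_mul, mul_smul] }
  have hF : ∀ (a : Adm S V n) c, F (Finsupp.single a c) = rmap ψ c • clsT S' (h ∘ a.1) := fun a c => by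
    refine Finsupp.sum_single_index (h := fun (a : Adm S V n) c => rmap ψ c • clsT S' (h ∘ a.1)) ?_
    rw [map_zero, zero_smul]
  have hsym : ∀ a : Adm S V n, F (sym S V a) = clsT S' (h ∘ a.1) := fun a => by
    rw [sym, hF, map_one, one_smul]
  have hle : Submodule.span (ResidueField S) (relSet S V n) ≤ LinearMap.ker F := by
    refine Submodule.span_le.mpr ?_
    rintro x ((⟨a, i, hi, rfl⟩ | ⟨a, a', i, c, hj, hd, rfl⟩) | ⟨a, a', i, b, hab, hm, he', rfl⟩)
    · rw [SetLike.mem_coe, LinearMap.mem_ker, hsym]
      exact clsT_eq_zero i (H.mem_span a.1 i hi)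
    · rw [SetLike.mem_coe, LinearMap.mem_ker, map_sub, hsym, map_smulₛₗ, hsym, sub_eq_zero,
        CycLib.clsT_smul (e := h ∘ a.1) (e' := h ∘ a'.1) i (Units.map (ψ : S →* S') c)
          (fun j hji => congrArg h (hj j hji)) (by
            have := H.mem_span a.1 i hd
            rwa [map_sub, H.smul] at this)]
      rfl
    · rw [SetLike.mem_coe, LinearMap.mem_ker, map_add, hsym, hsym, he',
        clsT_swap (H.adm a.2) hab (fun r hr => by
          have hr' : ψ.symm r ∈ maximalIdeal S := fun hu => hr (by simpa using hu.map ψ)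
          have := H.mem_span a.1 b (hm _ hr')
          rwa [H.smul, ψ.apply_symm_apply] at this)]
      exact neg_add_cancel _
  let D := (Submodule.span (ResidueField S) (relSet S V n)).liftQ F hle
  have hD : ∀ e : Fin n → V, D (clsT S e) = clsT S' (h ∘ e) := fun e => by
    unfold clsT
    split_ifs with h1 h2 h2
    · show F (sym S V ⟨e, h1⟩) = _
      rw [hsym]; exact dif_pos h2
    · exact absurd (H.adm h1) h2
    · exact absurd ((H.adm_iff e).mp h2) h1
    · exact map_zero D
  rw [← hD, he, map_smulₛₗ, hD]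

end Groth.Agent.CycK.Chi
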