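import Groth.Agent.CycK.Sl
import Groth.Agent.CycK.Chi.Mult
import Groth.Agent.CycK.Chi.Transfer
import Groth.Agent.H23.StalkPrimes
import Groth.Agent.H23.ZeroSec
import Groth.Agent.QCoh.Stalk
import Groth.Agent.CycLib.Div

/-! The localised stalk is the stalk at the generization. -/

set_option autoImplicit false
set_option linter.style.haveILetI false
set_option linter.unusedSectionVars false
set_option backward.isDefEq.respectTransparency false
set_option backward.isDefEq.respectTransparency.types false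

universe u

open CategoryTheory AlgebraicGeometry TopologicalSpace Opposite IsLocalRing CycDet

namespace Groth.Agent.CycK.Chi

open Groth.Agent Groth.Agent.CycLib Groth.Agent.CycLib.Ratio

variable {X : Scheme.{u}} [IsLocallyNoetherian X] {x ξ : X}

/-- The prime of a generization. -/
noncomputable def qp (h : ξ ⤳ x) : PrimeSpectrum (X.presheaf.stalk x) :=
  ⟨RingHom.ker (Cyc.specMap x ξ h), RingHom.ker_isPrime _⟩

theorem qp_eq (h : ξ ⤳ x) : qp h = CDiv6.primeOf h := by
  refine PrimeSpectrum.ext (Ideal.ext fun a => ?_)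
  rw [CDiv6.mem_primeOf]
  show X.residue ξ (X.presheaf.stalkSpecializes h a) = 0 ↔ _
  exact Ideal.Quotient.eq_zero_iff_mem.trans ((IsLocalRing.mem_maximalIdeal _).trans mem_nonunits_iff)

theorem notMem_qp (h : ξ ⤳ x) {a : X.presheaf.stalk x} :
    a ∉ (qp h).asIdeal ↔ IsUnit (X.presheaf.stalkSpecializes h a) := by
  rw [qp_eq, CDiv6.mem_primeOf, not_not]

/-- The localisation of the stalk is the stalk. -/
noncomputable def ringIso (h : ξ ⤳ x) : Rq (qp h) ≃+* X.presheaf.stalk ξ :=
  letI := (X.presheaf.stalkSpecializes h).hom.toAlgebra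
  haveI : IsLocalization.AtPrime (X.presheaf.stalk ξ) (qp h).asIdeal := by
    simp only [qp_eq]
    exact H23.StalkPrimes.isLocalization_primeOf h
  (IsLocalization.algEquiv (qp h).asIdeal.primeCompl (Rq (qp h)) (X.presheaf.stalk ξ)).toRingEquiv

theorem ringIso_alg (h : ξ ⤳ x) (a : X.presheaf.stalk x) :
    ringIso h (algebraMap _ (Rq (qp h)) a) = X.presheaf.stalkSpecializes h a :=
  letI := (X.presheaf.stalkSpecializes h).hom.toAlgebra
  haveI : IsLocalization.AtPrime (X.presheaf.stalk ξ) (qp h).asIdeal := by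
    simp only [qp_eq]
    exact H23.StalkPrimes.isLocalization_primeOf h
  AlgEquiv.commutes (IsLocalization.algEquiv (qp h).asIdeal.primeCompl (Rq (qp h)) (X.presheaf.stalk ξ)) a

theorem rmap_ringIso (h : ξ ⤳ x) (a : X.presheaf.stalk x) :
    rmap (ringIso h) (residue (Rq (qp h)) (algebraMap _ _ a)) = Cyc.specMap x ξ h a := by
  rw [rmap_residue, ringIso_alg]
  rfl

/-- Stalk specialisation of a module as a linear map. -/
noncomputable def specLin (F : X.Modules) (h : ξ ⤳ x) :
    letI := Module.compHom (F.presheaf.stalk ξ) (X.presheaf.stalkSpecializes h).hom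
    F.presheaf.stalk x →ₗ[X.presheaf.stalk x] F.presheaf.stalk ξ :=
  letI := Module.compHom (F.presheaf.stalk ξ) (X.presheaf.stalkSpecializes h).hom
  { toFun := F.presheaf.stalkSpecializes h
    map_add' := map_add (F.presheaf.stalkSpecializes h).hom
    map_smul' := fun a m => H23.ZeroSec.stalkSpecializes_smul F h a m }

theorem isLocalizedModule_spec {F : X.Modules} (hF : Coh.IsQCoh F) (h : ξ ⤳ x) :
    letI := Module.compHom (F.presheaf.stalk ξ) (X.presheaf.stalkSpecializes h).hom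
    IsLocalizedModule (qp h).asIdeal.primeCompl (specLin F h) := by
  letI := Module.compHom (F.presheaf.stalk ξ) (X.presheaf.stalkSpecializes h).hom
  have hspec : ∀ {U : X.Opens} (hxU : x ∈ U) (hξU : ξ ∈ U) (m : Γ(F, U)),
      F.presheaf.stalkSpecializes h (F.presheaf.germ U x hxU m) = F.presheaf.germ U ξ hξU m := fun hxU _ m =>
    TopCat.Presheaf.germ_stalkSpecializes_apply (F := F.presheaf) hxU h m
  refine ⟨fun s => ?_, fun y => ?_, fun {a b} hab => ?_⟩
  · rw [Module.End.isUnit_iff]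
    have hu := (notMem_qp h).mp s.2
    refine ⟨fun a b hab => hu.smul_left_cancel.1 hab, fun b => ⟨hu.unit⁻¹.val • b, ?_⟩⟩
    show X.presheaf.stalkSpecializes h s.1 • hu.unit⁻¹.val • b = b
    rw [← mul_smul, IsUnit.mul_val_inv, one_smul]
  · obtain ⟨U, hU, hxU, -⟩ := exists_isAffineOpen_mem_and_subset (x := x) (U := (⊤ : X.Opens)) trivial
    have hξU : ξ ∈ U := h.mem_open U.2 hxU
    letI := QCoh.stalkModule F hξU
    haveI := QCoh.isLocalizedModule_germLin hF hU hξU
    obtain ⟨⟨t, g⟩, hg⟩ := IsLocalizedModule.surj (hU.primeIdealOf ⟨ξ, hξU⟩).asIdeal.primeCompl (QCoh.germLin F hξU) y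
    have hu : IsUnit (X.presheaf.germ U ξ hξU g.1) :=
      (X.mem_basicOpen _ ξ hξU).1 ((QCoh.mem_basicOpen_iff_notMem hU hξU _).2 g.2)
    refine ⟨(F.presheaf.germ U x hxU t, ⟨X.presheaf.germ U x hxU g.1, (notMem_qp h).mpr ?_⟩), ?_⟩
    · rw [TopCat.Presheaf.germ_stalkSpecializes_apply (F := X.presheaf) hxU h]; exact hu
    · show X.presheaf.stalkSpecializes h (X.presheaf.germ U x hxU g.1) • y = F.presheaf.stalkSpecializes h _
      rw [hspec hxU hξU, TopCat.Presheaf.germ_stalkSpecializes_apply (F := X.presheaf) hxU h]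
      exact hg
  · have h0 : F.presheaf.stalkSpecializes h (a - b) = 0 := (map_sub _ _ _).trans (sub_eq_zero.2 hab)
    obtain ⟨U, hU, hxU, m, hm⟩ := CycLib.exists_germ_affine F (a - b)
    rw [← hm, hspec hxU (h.mem_open U.2 hxU)] at h0
    obtain ⟨f, hξf, hf⟩ := (QCoh.germ_eq_zero_iff hF hU (h.mem_open U.2 hxU) m).1 h0
    refine ⟨⟨X.presheaf.germ U x hxU f, (notMem_qp h).mpr ?_⟩, sub_eq_zero.1 ?_⟩
    · rw [TopCat.Presheaf.germ_stalkSpecializes_apply (F := X.presheaf) hxU h]
      exact (X.mem_basicOpen _ ξ _).1 hξf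
    · show X.presheaf.germ U x hxU f • a - X.presheaf.germ U x hxU f • b = 0
      rw [← smul_sub, ← hm, ← QCoh.germ_smul', hf, map_zero]

/-- The localised stalk is the stalk. -/
theorem exists_semi {F : X.Modules} (hF : Coh.IsQCoh F) (h : ξ ⤳ x) :
    ∃ e : Vq (qp h) (F.presheaf.stalk x) ≃+ F.presheaf.stalk ξ, Semi (ringIso h) e ∧
      ∀ m, e (LocalizedModule.mkLinearMap _ _ m) = F.presheaf.stalkSpecializes h m := by
  letI := Module.compHom (F.presheaf.stalk ξ) (X.presheaf.stalkSpecializes h).hom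
  haveI := isLocalizedModule_spec hF h
  let l := IsLocalizedModule.iso (qp h).asIdeal.primeCompl (specLin F h)
  have hl : ∀ m, l (LocalizedModule.mkLinearMap _ _ m) = F.presheaf.stalkSpecializes h m := fun m => by
    rw [LocalizedModule.mkLinearMap_apply, IsLocalizedModule.iso_apply_mk]
    exact IsLocalizedModule.mk'_one (qp h).asIdeal.primeCompl (specLin F h) m
  refine ⟨l.toAddEquiv, ⟨fun c v => ?_⟩, hl⟩
  obtain ⟨a, s, hs, hc⟩ := exists_fraction (qp h) c
  have hu := (notMem_qp h).mp hs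
  have e1 : X.presheaf.stalkSpecializes h s • l (c • v) = X.presheaf.stalkSpecializes h a • l v := by
    refine (l.map_smul s (c • v)).symm.trans ((congrArg l ?_).trans (l.map_smul a v))
    rw [← algebraMap_smul (Rq (qp h)) s, smul_smul, hc, algebraMap_smul]
  refine hu.smul_left_cancel.1 ?_
  show X.presheaf.stalkSpecializes h s • l (c • v) = X.presheaf.stalkSpecializes h s • ringIso h c • l v
  rw [e1, smul_smul, ← ringIso_alg, ← ringIso_alg, ← map_mul, hc]

/-- Semilinear isomorphisms preserve length. -/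
theorem Semi.length_eq {S S' V V' : Type u} [CommRing S] [CommRing S'] [IsLocalRing S] [IsLocalRing S'] [AddCommGroup V]
    [Module S V] [AddCommGroup V'] [Module S' V'] {ψ : S ≃+* S'} {e : V ≃+ V'} (H : Semi ψ e) :
    Module.length S V = Module.length S' V' := by
  haveI := RingHomInvPair.of_ringEquiv ψ
  haveI := RingHomInvPair.of_ringEquiv ψ.symm
  let l : V ≃ₛₗ[(ψ : S →+* S')] V' := { e with map_smul' := H.smul }
  apply WithBot.coe_injective
  rw [Module.coe_length, Module.coe_length]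
  exact Order.krullDim_eq_of_orderIso (Submodule.orderIsoMapComap l)

variable {F : X.Modules}

/-- Admissible strict tuples at the prime are those at the generization. -/
theorem loc_iff (hF : Coh.IsQCoh F) (h : ξ ⤳ x) {n : ℕ} (u : Fin n → F.presheaf.stalk x) :
    (IsAdmissible (Rq (qp h)) (Vq (qp h) (F.presheaf.stalk x)) (loc (qp h) u) ↔
      IsAdmissible (X.presheaf.stalk ξ) (F.presheaf.stalk ξ) (F.presheaf.stalkSpecializes h ∘ u)) ∧
    (CycLib.Strict (Rq (qp h)) (loc (qp h) u) ↔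
      CycLib.Strict (X.presheaf.stalk ξ) (F.presheaf.stalkSpecializes h ∘ u)) := by
  obtain ⟨e, H, he⟩ := exists_semi hF h
  have : ⇑e ∘ loc (qp h) u = F.presheaf.stalkSpecializes h ∘ u := funext fun j => he (u j)
  rw [← this]
  exact ⟨(H.adm_iff _).symm, (H.strict_iff _).symm⟩

theorem loc_length (hF : Coh.IsQCoh F) (h : ξ ⤳ x) :
    Module.length (Rq (qp h)) (Vq (qp h) (F.presheaf.stalk x)) =
      Module.length (X.presheaf.stalk ξ) (F.presheaf.stalk ξ) := by
  obtain ⟨e, H, -⟩ := exists_semi hF h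
  exact H.length_eq

/-- A tuple of the generization lifts up to units. -/
theorem exists_tuple (hF : Coh.IsQCoh F) (h : ξ ⤳ x) {n : ℕ} {e : Fin n → F.presheaf.stalk ξ}
    (hA : IsAdmissible (X.presheaf.stalk ξ) _ e) (hS : CycLib.Strict (X.presheaf.stalk ξ) e) :
    ∃ u : Fin n → F.presheaf.stalk x,
      IsAdmissible (X.presheaf.stalk ξ) _ (F.presheaf.stalkSpecializes h ∘ u) ∧
        CycLib.Strict (X.presheaf.stalk ξ) (F.presheaf.stalkSpecializes h ∘ u) := by
  letI := Module.compHom (F.presheaf.stalk ξ) (X.presheaf.stalkSpecializes h).hom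
  haveI := isLocalizedModule_spec hF h
  choose z hz using fun j => IsLocalizedModule.surj (qp h).asIdeal.primeCompl (specLin F h) (e j)
  have hu : ∀ j, IsUnit (X.presheaf.stalkSpecializes h (z j).2.1) := fun j => (notMem_qp h).mp (z j).2.2
  have hw : ∀ j : Fin n, e j - ((hu j).unit⁻¹ : (X.presheaf.stalk ξ)ˣ).1 •
      (F.presheaf.stalkSpecializes h ∘ fun j => (z j).1) j ∈ spanBefore (X.presheaf.stalk ξ) _ e j := fun j => by
    have e1 : X.presheaf.stalkSpecializes h (z j).2.1 • e j = F.presheaf.stalkSpecializes h (z j).1 := hz j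
    rw [Function.comp_apply, ← e1, smul_smul, IsUnit.val_inv_mul, one_smul, sub_self]
    exact zero_mem _
  exact ⟨fun j => (z j).1, adm_of_sub _ hw hA, (strict_iff_of_sub _ hw).mp hS⟩

/-- **Totals and symbol ratios.** -/
theorem total_sub {δ : X → ℤ} (hd : Cyc.IsDimFun X δ) (hF : Coh.IsQCoh F) [Module.Finite (X.presheaf.stalk x) (F.presheaf.stalk x)]
    (h : ξ ⤳ x) (hx : δ x + 1 = δ ξ) (hq : ∀ p : PrimeSpectrum (X.presheaf.stalk x), qp h ≤ p → p = qp h ∨ p = closedPoint _)
    {n : ℕ} (hn : Module.length (X.presheaf.stalk ξ) (F.presheaf.stalk ξ) = n) {e : Fin n → F.presheaf.stalk ξ}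
    {y u : Fin n → F.presheaf.stalk x}
    (hyA : IsAdmissible (X.presheaf.stalk ξ) _ (F.presheaf.stalkSpecializes h ∘ y))
    (hyS : CycLib.Strict (X.presheaf.stalk ξ) (F.presheaf.stalkSpecializes h ∘ y))
    (huA : IsAdmissible (X.presheaf.stalk ξ) _ (F.presheaf.stalkSpecializes h ∘ u))
    (huS : CycLib.Strict (X.presheaf.stalk ξ) (F.presheaf.stalkSpecializes h ∘ u))
    {fy fu : X.residueField ξ} (hfy : fy ≠ 0)
    (ey : clsT (X.presheaf.stalk ξ) (F.presheaf.stalkSpecializes h ∘ y) = (fy : ResidueField (X.presheaf.stalk ξ)) • clsT _ e)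
    (eu : clsT (X.presheaf.stalk ξ) (F.presheaf.stalkSpecializes h ∘ u) = (fu : ResidueField (X.presheaf.stalk ξ)) • clsT _ e)
    (hne : clsT (X.presheaf.stalk ξ) e ≠ 0) :
    ((total (qp h) u).toNat : ℤ) - Cyc.ordAt x ξ h fu = ((total (qp h) y).toNat : ℤ) - Cyc.ordAt x ξ h fy := by
  obtain ⟨ls, H, he⟩ := exists_semi hF h
  have hyA' := (loc_iff hF h y).1.mpr hyA
  have huA' := (loc_iff hF h u).1.mpr huA
  obtain ⟨a, s, ha, hs, hcls, htot⟩ := rel_of_strict (qp h) ((loc_length hF h).trans hn) hyA'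
    ((loc_iff hF h y).2.mpr hyS) huA' ((loc_iff hF h u).2.mpr huS)
  have h2 := H.clsT_smul _ hcls
  rw [show ⇑ls ∘ loc (qp h) u = F.presheaf.stalkSpecializes h ∘ u from funext fun j => he (u j),
    show ⇑ls ∘ loc (qp h) y = F.presheaf.stalkSpecializes h ∘ y from funext fun j => he (y j),
    eu, ey, map_div₀, rmap_ringIso, rmap_ringIso, smul_smul] at h2
  have hf : fu = Cyc.specMap x ξ h a / Cyc.specMap x ξ h s * fy := smul_left_injective _ hne h2
  have hsa : ∀ {r}, r ∉ (qp h).asIdeal → Cyc.specMap x ξ h r ≠ 0 := fun hr e => hr (RingHom.mem_ker.mpr e)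
  have hord : ∀ {r}, r ∉ (qp h).asIdeal →
      Cyc.ordAt x ξ h (Cyc.specMap x ξ h r) = ((ordQ (qp h) r).toNat : ℤ) ∧ ordQ (qp h) r ≠ ⊤ := fun {r} hr => by
    haveI := CycLib.krullDimLE_locQuot hd h hx
    haveI : Ring.KrullDimLE 1 (↑(X.presheaf.stalk x) ⧸ (qp h).asIdeal) := CycLib.krullDimLE_locQuot hd h hx
    have h0 : (Ideal.Quotient.mk _ r : Cyc.LocQuot x ξ h) ≠ 0 := mt Ideal.Quotient.eq_zero_iff_mem.mp hr
    exact ⟨CycLib.ordAt_algebraMap hd h hx h0, Ring.ord_ne_top (mem_nonZeroDivisors_of_ne_zero h0)⟩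
  have hmul : fu * Cyc.specMap x ξ h s = Cyc.specMap x ξ h a * fy := by
    rw [hf, div_mul_eq_mul_div, div_mul_cancel₀ _ (hsa hs)]
  have hfu : fu ≠ 0 := hf ▸ mul_ne_zero (div_ne_zero (hsa ha) (hsa hs)) hfy
  have h3 := congrArg (Cyc.ordAt x ξ h) hmul
  rw [CycLib.ordAt_mul hd h hx hfu (hsa hs), CycLib.ordAt_mul hd h hx (hsa ha) hfy, (hord ha).1, (hord hs).1] at h3
  have h4 := congrArg ENat.toNat htot
  rw [ENat.toNat_add (total_lt_top (qp h) hq huA').ne (hord hs).2,
    ENat.toNat_add (total_lt_top (qp h) hq hyA').ne (hord ha).2] at h4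
  omega

end Groth.Agent.CycK.Chi
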