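import Groth.Agent.CycK.Chi.Global

/-! Rational equivalence from equality of classes in `K0CohQuot`. -/

set_option autoImplicit false
set_option linter.style.haveILetI false
set_option linter.unusedSectionVars false
set_option backward.isDefEq.respectTransparency false
set_option backward.isDefEq.respectTransparency.types false

universe u

open CategoryTheory CategoryTheory.Limits AlgebraicGeometry

namespace Groth.Agent.CycK.Chi

open Groth.Agent Groth.Agent.CycK

variable {X : Scheme.{u}} [IsLocallyNoetherian X] {δ : X → ℤ} {a b k : ℤ}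

/-- Coherent modules with equal classes have rationally equivalent cycles. -/
theorem sheafFun_sub_mem (hd : Cyc.IsDimFun X δ) {F G : X.Modules} (hF : Cyc.CohLe δ k F) (hG : Cyc.CohLe δ k G)
    (h : Cyc.toK0CohQuot δ (k + 1) (k - 1) F = Cyc.toK0CohQuot δ (k + 1) (k - 1) G) :
    Cyc.sheafFun δ k F - Cyc.sheafFun δ k G ∈ ratSub δ k := by
  obtain ⟨ψ, hψ⟩ := exists_class (k := k) hd
  rw [← QuotientAddGroup.eq_iff_sub_mem, ← hψ F hF, ← hψ G hG, h]

theorem ratEquivZero_of_mem (hd : Cyc.IsDimFun X δ) {γ : AlgebraicCycle X ℤ} (h : ⇑γ ∈ ratSub δ k) :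
    Cyc.RatEquivZero δ k γ := by
  obtain ⟨ι, ξ, f, hf⟩ := h
  exact ⟨ι, ξ, f, hf hd⟩

/-- The classes of the kernel and cokernel of a morphism. -/
theorem kernel_add {A B : X.Modules} (g : A ⟶ B) (hA : Cyc.CohLe δ a A) (hB : Cyc.CohLe δ a B) :
    Cyc.toK0CohQuot δ a b (kernel g) + Cyc.toK0CohQuot δ a b B =
      Cyc.toK0CohQuot δ a b A + Cyc.toK0CohQuot δ a b (cokernel g) := by
  have hk : Cyc.CohLe δ a (kernel g) := cohLe_kernel g hA hB.1
  have hc : Cyc.CohLe δ a (cokernel g) := cohLe_cokernel g hA.1 hB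
  have hi : Cyc.CohLe δ a (Abelian.image g) := cohLe_kernel (cokernel.π g) hB hc.1
  have hci : Cyc.CohLe δ a (Abelian.coimage g) := cohLe_cokernel (kernel.ι g) hk.1 hA
  have h1 := ses (b := b) (S := ShortComplex.mk (kernel.ι g) (cokernel.π (kernel.ι g)) (cokernel.condition _))
    (.mk' (ShortComplex.exact_of_g_is_cokernel _ (cokernelIsCokernel _)) inferInstance inferInstance) hk hA hci
  have h2 := ses (b := b) (S := ShortComplex.mk (kernel.ι (cokernel.π g)) (cokernel.π g) (kernel.condition _))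
    (.mk' (ShortComplex.exact_of_f_is_kernel _ (kernelIsKernel _)) inferInstance inferInstance) hi hB hc
  have h3 : Cyc.toK0CohQuot δ a b (Abelian.coimage g) = Cyc.toK0CohQuot δ a b (Abelian.image g) :=
    CycK.iso (Abelian.coimageIsoImage g) hci
  change Cyc.toK0CohQuot δ a b A = _ + Cyc.toK0CohQuot δ a b (Abelian.coimage g) at h1
  change Cyc.toK0CohQuot δ a b B = Cyc.toK0CohQuot δ a b (Abelian.image g) + _ at h2
  rw [h1, h2, h3, add_assoc]

/-- The class of the homology of `F → F → F`. -/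
theorem homology_class {F : X.Modules} {φ ψ : F ⟶ F} (w : φ ≫ ψ = 0) (hF : Cyc.CohLe δ a F) :
    Cyc.CohLe δ a (ShortComplex.mk φ ψ w).homology ∧
      Cyc.toK0CohQuot δ a b (ShortComplex.mk φ ψ w).homology + Cyc.toK0CohQuot δ a b F =
        Cyc.toK0CohQuot δ a b (kernel φ) + Cyc.toK0CohQuot δ a b (kernel ψ) := by
  let S := ShortComplex.mk φ ψ w
  have hcyc : Cyc.CohLe δ a S.cycles := cohLe_iso S.cyclesIsoKernel.symm (cohLe_kernel ψ hF hF.1)
  have e1 : cokernel S.toCycles ≅ S.homology :=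
    (cokernelIsCokernel S.toCycles).coconePointUniqueUpToIso S.homologyIsCokernel
  have e2 : kernel S.toCycles ≅ kernel φ :=
    (kernelCompMono S.toCycles S.iCycles).symm ≪≫ eqToIso (congrArg (fun g => kernel g) S.toCycles_i)
  have hco := cohLe_cokernel S.toCycles hF.1 hcyc
  refine ⟨cohLe_iso e1 hco, ?_⟩
  have h := kernel_add (b := b) S.toCycles hF hcyc
  rw [CycK.iso (b := b) e1 hco, CycK.iso (b := b) e2 (cohLe_kernel S.toCycles hF hcyc.1),
    CycK.iso (b := b) S.cyclesIsoKernel hcyc] at h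
  rw [add_comm]
  exact h.symm

end Groth.Agent.CycK.Chi
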