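import Groth.Agent.CycLib.Ratio
import Groth.Agent.CycLib.Append

/-! The index of a tuple in a module: comparisons, additivity, finiteness. -/

set_option linter.unusedSectionVars false

namespace Groth.Agent.CycK.Chi

open CycDet IsLocalRing IntThLib
open Groth.Agent.CycLib Groth.Agent.CycLib.Ratio

universe u

variable {R : Type u} [CommRing R] [IsNoetherianRing R] [IsLocalRing R] (q : PrimeSpectrum R)
  {N : Type u} [AddCommGroup N] [Module R N] {l : ℕ}

/-- Two tuples with proportional symbols and totals differing by the order of the factor. -/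
def Rel (y u : Fin l → N) : Prop :=
  ∃ a s : R, a ∉ q.asIdeal ∧ s ∉ q.asIdeal ∧
    clsT (Rq q) (loc q u) = (residue (Rq q) (algebraMap R _ a) / residue (Rq q) (algebraMap R _ s)) •
      clsT (Rq q) (loc q y) ∧ total q u + ordQ q s = total q y + ordQ q a

variable {y : Fin l → N}

/-- Any two strict tuples are related. -/
theorem rel_all (hyA : IsAdmissible (Rq q) (Vq q N) (loc q y)) (hyS : Strict (Rq q) (loc q y))
    (hl : Module.length (Rq q) (Vq q N) = l) :
    ∀ {d k : ℕ}, k + d = l → ∀ u : Fin l → N, IsAdmissible (Rq q) (Vq q N) (loc q u) → Strict (Rq q) (loc q u) →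
      (∀ j : Fin l, (j : ℕ) < k → u j = y j) → Rel q y u := by
  classical
  intro d
  induction d with
  | zero =>
    intro k hk u _ _ hpre
    obtain rfl : u = y := funext fun j => hpre j (by omega)
    exact ⟨1, 1, q.asIdeal.primeCompl.one_mem, q.asIdeal.primeCompl.one_mem, by simp, rfl⟩
  | succ d ih =>
    intro k hk u hu hs hpre
    have hkl : k < l := by omega
    let kk : Fin l := ⟨k, hkl⟩
    have hpre_span : ∀ {v : Fin l → N}, (∀ j : Fin l, (j : ℕ) < k → v j = y j) →
        spanBefore (Rq q) (Vq q N) (loc q v) k = spanBefore (Rq q) (Vq q N) (loc q y) k := fun hv =>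
      spanBefore_congr fun j hj => congrArg _ (hv j hj)
    -- a position carrying `y k` can be moved down to `k`
    have hmove : ∀ (e : ℕ) (i : Fin l), (i : ℕ) = k + e → ∀ v : Fin l → N, IsAdmissible (Rq q) (Vq q N) (loc q v) →
        Strict (Rq q) (loc q v) → (∀ j : Fin l, (j : ℕ) < k → v j = y j) → v i = y kk → Rel q y v := by
      intro e
      induction e with
      | zero =>
        intro i hi v hv hvs hvp hvi
        refine ih (k := k + 1) (by omega) v hv hvs fun j hj => ?_
        rcases eq_or_ne (j : ℕ) k with h | h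
        · obtain rfl : j = kk := Fin.ext h
          obtain rfl : i = kk := Fin.ext (by simpa using hi)
          exact hvi
        · exact hvp j (by omega)
      | succ e ihe =>
        intro i hi v hv hvs hvp hvi
        let b : Fin l := ⟨k + e, by omega⟩
        have hab : (b : ℕ) + 1 = i := by simp only [b]; omega
        have hm : ∀ r ∈ maximalIdeal (Rq q), r • loc q v i ∈ spanBefore (Rq q) (Vq q N) (loc q v) b := fun r hr => by
          refine spanBefore_mono _ (Nat.le_add_right k e) ?_
          rw [hpre_span hvp, show loc q v i = loc q y kk from congrArg _ hvi]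
          exact hyA kk r hr
        have hv' : IsAdmissible (Rq q) (Vq q N) (loc q (v ∘ Equiv.swap i b)) := adm_swap hv hab hm
        have hvs' : Strict (Rq q) (loc q (v ∘ Equiv.swap i b)) := by
          rw [strict_iff_span hv' hl, show loc q (v ∘ Equiv.swap i b) = loc q v ∘ Equiv.swap i b from rfl,
            Set.range_comp, Equiv.range_eq_univ, Set.image_univ]
          exact (strict_iff_span hv hl).mp hvs
        obtain ⟨a, s, ha, hsq, h1, h2⟩ := ihe b rfl _ hv' hvs' (fun j hj => by
          rw [Function.comp_apply, Equiv.swap_apply_of_ne_of_ne (Fin.ne_of_val_ne (by omega))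
            (Fin.ne_of_val_ne (by simp only [b]; omega))]
          exact hvp j hj) (by rw [Function.comp_apply, Equiv.swap_apply_right, hvi])
        refine ⟨-a, s, fun h => ha (by simpa using neg_mem h), hsq, ?_, ?_⟩
        · rw [clsT_swap hv hab hm, show loc q v ∘ Equiv.swap i b = loc q (v ∘ Equiv.swap i b) from rfl, h1,
            map_neg, map_neg, neg_div, neg_smul]
        · rw [← total_swap q hvs hv hab hm hvs', ordQ_neg, h2]
    -- put `y k` into the tuple
    have hy0 : loc q y kk ≠ 0 := fun h => hyS kk (by rw [h]; exact zero_mem _)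
    obtain ⟨i, c, hg⟩ := exists_good (x := loc q y kk) hu hy0 (by rw [loc_span_top q hl hu hs]; trivial)
    have hik : k ≤ (i : ℕ) := by
      by_contra hlt
      have h1 : loc q y kk ∈ spanBefore (Rq q) (Vq q N) (loc q u) k := by
        refine spanBefore_mono _ (by omega : (i : ℕ) + 1 ≤ k) ?_
        rw [spanBefore_succ, ← sub_add_cancel (loc q y kk) (c • loc q u i)]
        exact Submodule.add_mem_sup hg.1 (Submodule.smul_mem _ _ (Submodule.mem_span_singleton_self _))
      rw [hpre_span hpre] at h1
      exact hyS kk h1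
    obtain ⟨a, s, hsq, hcs⟩ := exists_fraction q c
    have haq : a ∉ q.asIdeal := fun h => by
      have := (alg_mem_max q).mpr h
      rw [← hcs, mem_maximalIdeal] at this
      exact this ((unit_alg q hsq).mul hg.2)
    have hmem : s • y kk - a • u i ∈ sat q u i := by
      rw [mem_sat, map_sub, map_smul, map_smul, ← algebraMap_smul (Rq q) s, ← algebraMap_smul (Rq q) a, ← hcs,
        mul_smul, ← smul_sub]
      exact Submodule.smul_mem _ _ hg.1
    obtain ⟨hA', hS', hcl, htot⟩ := total_update q hs hu hsq haq hmem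
    obtain ⟨a', s', ha', hs', h1, h2⟩ := hmove ((i : ℕ) - k) i (by omega) _ hA' hS' (fun j hj => by
      rw [Function.update_of_ne (Fin.ne_of_val_ne (by omega))]
      exact hpre j hj) (Function.update_self _ _ _)
    refine ⟨s * a', a * s', q.asIdeal.primeCompl.mul_mem hsq ha', q.asIdeal.primeCompl.mul_mem haq hs', ?_, ?_⟩
    · rw [hcl, h1, smul_smul, div_mul_div_comm, map_mul, map_mul, map_mul, map_mul]
    · rw [ordQ_mul q hs', ordQ_mul q ha', ← add_assoc, htot, add_right_comm, h2]
      abel

/-- The totals of two strict tuples differ by the order of the ratio of their symbols. -/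
theorem rel_of_strict (hl : Module.length (Rq q) (Vq q N) = l)
    (hyA : IsAdmissible (Rq q) (Vq q N) (loc q y)) (hyS : Strict (Rq q) (loc q y))
    {u : Fin l → N} (huA : IsAdmissible (Rq q) (Vq q N) (loc q u)) (huS : Strict (Rq q) (loc q u)) : Rel q y u :=
  rel_all q hyA hyS hl (Nat.zero_add l) u huA huS fun _ hj => absurd hj (Nat.not_lt_zero _)

theorem gap_lt_top [Module.Finite R N] (hq : ∀ p : PrimeSpectrum R, q ≤ p → p = q ∨ p = closedPoint R)
    {u : Fin l → N} (hA : IsAdmissible (Rq q) (Vq q N) (loc q u)) (j : Fin l) : gap q u j < ⊤ := by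
  rw [gap_eq, relLen]
  refine lt_top_iff_ne_top.mpr (CycLib.length_ne_top_of_support fun p hp => ?_)
  set P := (sat q u j ⊔ Submodule.span R {u j}).submoduleOf (sat q u (j + 1)) with hP
  have hkill : ∀ z : ↥(sat q u (j + 1)), ∃ s : R, s ∉ q.asIdeal ∧ s • z ∈ P ∧ ∀ r ∈ q.asIdeal, r • z ∈ P := by
    rintro ⟨z, hz⟩
    obtain ⟨a, s, hs, h⟩ := sat_succ q j hz
    refine ⟨s, hs, ?_, fun r hr => Submodule.mem_sup_left ((smul_mem_sat q hs).mp ?_)⟩
    · show s • z ∈ sat q u j ⊔ Submodule.span R {u j}
      rw [← sub_add_cancel (s • z) (a • u j)]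
      exact Submodule.add_mem_sup h (Submodule.smul_mem _ _ (Submodule.mem_span_singleton_self _))
    · show s • r • z ∈ sat q u j
      have h1 := Submodule.smul_mem _ r h
      rw [smul_sub, smul_comm r s, smul_comm r a] at h1
      simpa using add_mem h1 (Submodule.smul_mem _ a (smul_self_mem q hA j hr))
  have hqp : q ≤ p := fun r hr => Module.annihilator_le_of_mem_support hp (Module.mem_annihilator.mpr fun w => by
    obtain ⟨z, rfl⟩ := Submodule.Quotient.mk_surjective _ w
    obtain ⟨_, -, -, h⟩ := hkill z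
    rw [← Submodule.Quotient.mk_smul, Submodule.Quotient.mk_eq_zero]
    exact h r hr)
  refine (hq p hqp).resolve_left fun e => ?_
  subst e
  refine Module.notMem_support_iff'.mpr (fun w => ?_) hp
  obtain ⟨z, rfl⟩ := Submodule.Quotient.mk_surjective _ w
  obtain ⟨s, hs, h, -⟩ := hkill z
  exact ⟨s, hs, by rw [← Submodule.Quotient.mk_smul, Submodule.Quotient.mk_eq_zero]; exact h⟩

theorem total_lt_top [Module.Finite R N] (hq : ∀ p : PrimeSpectrum R, q ≤ p → p = q ∨ p = closedPoint R)
    {u : Fin l → N} (hA : IsAdmissible (Rq q) (Vq q N) (loc q u)) : total q u < ⊤ := by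
  rw [total]
  exact lt_top_iff_ne_top.mpr (WithTop.sum_ne_top.mpr fun k hk =>
    (gap_lt_top q hq hA ⟨k, Finset.mem_range.mp hk⟩).ne)

section glue

variable {A B C : Type u} [AddCommGroup A] [Module R A] [AddCommGroup B] [Module R B] [AddCommGroup C] [Module R C]

theorem relLen_map_inj (f : A →ₗ[R] B) (hf : Function.Injective f) (M L : Submodule R A) :
    relLen R (M.map f) (L.map f) = relLen R M L := by
  symm
  refine LinearEquiv.length_eq (Submodule.Quotient.equiv _ _ (Submodule.equivMapOfInjective f hf M) ?_)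
  ext ⟨b, hb⟩
  rw [Submodule.mem_map]
  constructor
  · rintro ⟨a, ha, h⟩
    exact ⟨a.1, ha, congrArg Subtype.val h⟩
  · rintro ⟨a, ha, h⟩
    obtain ⟨a', ha', e⟩ := hb
    obtain rfl : a' = a := hf (e.trans h.symm)
    exact ⟨⟨a', ha'⟩, ha, Subtype.ext h⟩

theorem relLen_comap_surj (g : B →ₗ[R] C) (hg : Function.Surjective g) (M L : Submodule R C) :
    relLen R (M.comap g) (L.comap g) = relLen R M L := by
  let h : ↥(M.comap g) →ₗ[R] (↥M ⧸ L.submoduleOf M) :=
    (L.submoduleOf M).mkQ ∘ₗ (g ∘ₗ (M.comap g).subtype).codRestrict M fun z => z.2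
  have hsurj : Function.Surjective h := fun w => by
    obtain ⟨⟨c, hc⟩, rfl⟩ := Submodule.mkQ_surjective _ w
    obtain ⟨b, rfl⟩ := hg c
    exact ⟨⟨b, hc⟩, rfl⟩
  refine ((Submodule.quotEquivOfEq _ _ ?_).trans (h.quotKerEquivOfSurjective hsurj)).length_eq
  ext z
  show (z : B) ∈ L.comap g ↔ Submodule.Quotient.mk _ = 0
  rw [Submodule.Quotient.mk_eq_zero]
  rfl

variable {f : A →ₗ[R] B} {g : B →ₗ[R] C} {a b : ℕ}

/-- Localisation of a linear map. -/
noncomputable abbrev lmap (f : A →ₗ[R] B) : Vq q A →ₗ[Rq q] Vq q B := LocalizedModule.map q.asIdeal.primeCompl f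

theorem lmap_mk (f : A →ₗ[R] B) (z : A) :
    lmap q f (LocalizedModule.mkLinearMap _ A z) = LocalizedModule.mkLinearMap _ B (f z) := by
  simp [LocalizedModule.mkLinearMap_apply, LocalizedModule.map_mk]

/-- Concatenation of a tuple of the submodule and lifts of a tuple of the quotient. -/
noncomputable def cat (f : A →ₗ[R] B) (hg : Function.Surjective g) (uA : Fin a → A) (uC : Fin b → C) :
    Fin (a + b) → B :=
  glue f hg uA uC

theorem loc_cat_left (hg : Function.Surjective g) (uA : Fin a → A) (uC : Fin b → C) (i : Fin a) :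
    loc q (cat f hg uA uC) (Fin.castAdd b i) = lmap q f (loc q uA i) := by
  simp only [Function.comp_apply, cat, glue_left, lmap_mk]

theorem loc_cat_right (hg : Function.Surjective g) (uA : Fin a → A) (uC : Fin b → C) (j : Fin b) :
    lmap q g (loc q (cat f hg uA uC) (Fin.natAdd a j)) = loc q uC j := by
  simp only [Function.comp_apply, cat, lmap_mk, glue_right]

theorem span_cat_le (hg : Function.Surjective g) (uA : Fin a → A) (uC : Fin b → C) {k : ℕ} (hk : k ≤ a) :
    spanBefore (Rq q) (Vq q B) (loc q (cat f hg uA uC)) k =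
      (spanBefore (Rq q) (Vq q A) (loc q uA) k).map (lmap q f) := by
  rw [spanBefore, spanBefore, Submodule.map_span, ← Set.image_comp]
  congr 1
  ext z
  constructor
  · rintro ⟨t, ht, rfl⟩
    refine ⟨⟨t, lt_of_lt_of_le ht hk⟩, ht, ?_⟩
    rw [Function.comp_apply, ← loc_cat_left q hg uA uC]
    rfl
  · rintro ⟨t, ht, rfl⟩
    exact ⟨Fin.castAdd b t, ht, loc_cat_left q hg uA uC t⟩

theorem span_cat_ge (hfg : LinearMap.range f = LinearMap.ker g) (hg : Function.Surjective g) {uA : Fin a → A}
    (hA : Submodule.span (Rq q) (Set.range (loc q uA)) = ⊤) (uC : Fin b → C) {j : ℕ} :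
    spanBefore (Rq q) (Vq q B) (loc q (cat f hg uA uC)) (a + j) =
      (spanBefore (Rq q) (Vq q C) (loc q uC) j).comap (lmap q g) := by
  have hex := LocalizedModule.map_exact q.asIdeal.primeCompl f g (LinearMap.exact_iff.mpr hfg.symm)
  refine le_antisymm ?_ fun z hz => ?_
  · refine Submodule.span_le.mpr ?_
    rintro _ ⟨t, ht, rfl⟩
    induction t using Fin.addCases with
    | left i =>
      rw [SetLike.mem_coe, Submodule.mem_comap, loc_cat_left,
        show lmap q g (lmap q f (loc q uA i)) = 0 from (hex _).mpr ⟨_, rfl⟩]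
      exact zero_mem _
    | right t =>
      rw [SetLike.mem_coe, Submodule.mem_comap, loc_cat_right]
      refine mem_spanBefore ?_
      simp only [Fin.val_natAdd, Set.mem_setOf_eq] at ht
      omega
  · have hle : spanBefore (Rq q) (Vq q C) (loc q uC) j ≤
        (spanBefore (Rq q) (Vq q B) (loc q (cat f hg uA uC)) (a + j)).map (lmap q g) := by
      refine Submodule.span_le.mpr ?_
      rintro _ ⟨t, ht, rfl⟩
      exact ⟨_, mem_spanBefore (j := Fin.natAdd a t) (by rw [Fin.val_natAdd]; exact Nat.add_lt_add_left ht a),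
        loc_cat_right q hg uA uC t⟩
    obtain ⟨w, hw, hwz⟩ := hle hz
    obtain ⟨v, hv⟩ := (hex (z - w)).mp ((map_sub _ z w).trans (sub_eq_zero.mpr hwz.symm))
    rw [← sub_add_cancel z w]
    refine add_mem (spanBefore_mono _ (Nat.le_add_right a j) ?_) hw
    rw [span_cat_le q hg uA uC le_rfl, spanBefore_last _ le_rfl, hA, ← hv]
    exact Submodule.mem_map_of_mem trivial

theorem cat_adm_strict (hf : Function.Injective f) (hfg : LinearMap.range f = LinearMap.ker g)
    (hg : Function.Surjective g) {uA : Fin a → A} {uC : Fin b → C}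
    (hAA : IsAdmissible (Rq q) (Vq q A) (loc q uA)) (hAS : Strict (Rq q) (loc q uA))
    (hA : Submodule.span (Rq q) (Set.range (loc q uA)) = ⊤)
    (hCA : IsAdmissible (Rq q) (Vq q C) (loc q uC)) (hCS : Strict (Rq q) (loc q uC)) :
    IsAdmissible (Rq q) (Vq q B) (loc q (cat f hg uA uC)) ∧ Strict (Rq q) (loc q (cat f hg uA uC)) := by
  have hfi : Function.Injective (lmap q f) := LocalizedModule.map_injective q.asIdeal.primeCompl f hf
  constructor
  · intro t r hr
    induction t using Fin.addCases with
    | left i =>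
      rw [Fin.val_castAdd, span_cat_le q hg uA uC i.2.le, loc_cat_left, ← map_smul]
      exact Submodule.mem_map_of_mem (hAA i r hr)
    | right j =>
      rw [Fin.val_natAdd, span_cat_ge q hfg hg hA, Submodule.mem_comap, map_smul, loc_cat_right]
      exact hCA j r hr
  · intro t
    induction t using Fin.addCases with
    | left i =>
      rw [Fin.val_castAdd, span_cat_le q hg uA uC i.2.le, loc_cat_left]
      rintro ⟨w, hw, e⟩
      exact hAS i (hfi e ▸ hw)
    | right j =>
      rw [Fin.val_natAdd, span_cat_ge q hfg hg hA, Submodule.mem_comap, loc_cat_right]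
      exact hCS j

/-- **Totals along an exact sequence.** -/
theorem total_cat (hf : Function.Injective f) (hfg : LinearMap.range f = LinearMap.ker g)
    (hg : Function.Surjective g) {uA : Fin a → A} {uC : Fin b → C}
    (hA : Submodule.span (Rq q) (Set.range (loc q uA)) = ⊤) :
    total q (cat f hg uA uC) = total q uA + total q uC +
      relLen R ((LinearMap.ker (LocalizedModule.mkLinearMap q.asIdeal.primeCompl C)).comap g)
        (LinearMap.ker (LocalizedModule.mkLinearMap q.asIdeal.primeCompl B) ⊔ LinearMap.range f) := by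
  set u := cat f hg uA uC
  have hfi : Function.Injective (lmap q f) := LocalizedModule.map_injective q.asIdeal.primeCompl f hf
  have hlow : ∀ {k}, k ≤ a → ∀ z, f z ∈ sat q u k ↔ z ∈ sat q uA k := fun hk z => by
    rw [mem_sat, mem_sat, span_cat_le q hg uA uC hk, ← lmap_mk]
    exact ⟨fun ⟨w, hw, e⟩ => hfi e ▸ hw, fun h => Submodule.mem_map_of_mem h⟩
  have hhigh : ∀ j, sat q u (a + j) = (sat q uC j).comap g := fun j => by
    ext z
    rw [Submodule.mem_comap, mem_sat, mem_sat, span_cat_ge q hfg hg hA, Submodule.mem_comap, lmap_mk]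
  have hinf : ∀ {k}, k ≤ a → sat q u k ⊓ LinearMap.range f = (sat q uA k).map f := fun hk => by
    ext z
    constructor
    · rintro ⟨hz, w, rfl⟩
      exact Submodule.mem_map_of_mem ((hlow hk w).mp hz)
    · rintro ⟨w, hw, rfl⟩
      exact ⟨(hlow hk w).mpr hw, w, rfl⟩
  let d : ℕ → ℕ∞ := fun k => relLen R (sat q u k) (sat q u 0 ⊔ (sat q uA k).map f)
  have h00 : (sat q uA 0).map f ≤ sat q u 0 := by
    rintro _ ⟨w, hw, rfl⟩
    exact (hlow (Nat.zero_le a) w).mpr hw
  have hd0 : d 0 = 0 := by
    simp only [d, sup_eq_left.mpr h00]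
    exact relLen_self _
  have hstep : ∀ k, k < a → d (k + 1) + gap q uA k = d k + gap q u k := by
    intro k hk
    have e0 := gap_eq q u (Fin.castAdd b ⟨k, hk⟩)
    have e1 := gap_eq q uA ⟨k, hk⟩
    simp only [Fin.val_castAdd] at e0 e1
    rw [show u (Fin.castAdd b ⟨k, hk⟩) = f (uA ⟨k, hk⟩) from glue_left _] at e0
    have hle : sat q uA k ⊔ Submodule.span R {uA ⟨k, hk⟩} ≤ sat q uA (k + 1) :=
      sup_le (sat_mono q _ k.le_succ) (Submodule.span_le.mpr (Set.singleton_subset_iff.mpr
        (mem_spanBefore (e := loc q uA) (j := ⟨k, hk⟩) k.lt_succ_self)))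
    have hA'B' : (sat q uA (k + 1)).map f ≤ sat q u (k + 1) := by
      rintro _ ⟨w, hw, rfl⟩
      exact (hlow hk w).mpr hw
    have hfu : f (uA ⟨k, hk⟩) ∈ (sat q uA (k + 1)).map f :=
      Submodule.mem_map_of_mem (hle (Submodule.mem_sup_right (Submodule.mem_span_singleton_self _)))
    set S := sat q u k ⊔ Submodule.span R {f (uA ⟨k, hk⟩)} with hS
    set P := sat q u k ⊔ (sat q uA (k + 1)).map f with hP
    have hSP : S ≤ P := sup_le le_sup_left
      (Submodule.span_le.mpr (Set.singleton_subset_iff.mpr (Submodule.mem_sup_right hfu)))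
    have hPB : P ≤ sat q u (k + 1) := sup_le (sat_mono q u k.le_succ) hA'B'
    have hgA : relLen R P S = gap q uA k := by
      have hPS : (sat q uA (k + 1)).map f ⊔ S = P := by
        refine le_antisymm (sup_le le_sup_right hSP) (sup_le (le_trans le_sup_left le_sup_right) le_sup_left)
      rw [← hPS, relLen_sup_inf, show (sat q uA (k + 1)).map f ⊓ S =
          (sat q uA k ⊔ Submodule.span R {uA ⟨k, hk⟩}).map f from ?_, relLen_map_inj f hf, e1]
      refine le_antisymm ?_ (le_inf (Submodule.map_mono hle) ?_)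
      · rintro z ⟨hz, hzS⟩
        obtain ⟨w, hw, t, ht, rfl⟩ := Submodule.mem_sup.mp hzS
        obtain ⟨r, rfl⟩ := Submodule.mem_span_singleton.mp ht
        have hwr : w ∈ LinearMap.range f := by
          obtain ⟨v, -, hv⟩ := hz
          exact ⟨v - r • uA ⟨k, hk⟩, by rw [map_sub, map_smul, hv, add_sub_cancel_right]⟩
        obtain ⟨v, hv, rfl⟩ := (hinf hk.le).le ⟨hw, hwr⟩
        exact ⟨v + r • uA ⟨k, hk⟩, Submodule.add_mem_sup hv
          (Submodule.smul_mem _ _ (Submodule.mem_span_singleton_self _)), by simp⟩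
      · rw [Submodule.map_sup, Submodule.map_span, Set.image_singleton]
        exact sup_le_sup_right ((hinf hk.le).ge.trans inf_le_left) _
    have hgB : gap q u k = relLen R P S + relLen R (sat q u (k + 1)) P := by
      rw [e0]
      exact relLen_add hSP hPB
    have hd : d (k + 1) = d k + relLen R (sat q u (k + 1)) P := by
      have hT : sat q u 0 ⊔ (sat q uA (k + 1)).map f ≤ P := sup_le_sup_right (sat_mono q u k.zero_le) _
      simp only [d]
      rw [relLen_add hT hPB]
      congr 1
      have hPT : sat q u k ⊔ (sat q u 0 ⊔ (sat q uA (k + 1)).map f) = P := by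
        rw [← sup_assoc, sup_eq_left.mpr (sat_mono q u k.zero_le)]
      rw [← hPT, relLen_sup_inf, show sat q u k ⊓ (sat q u 0 ⊔ (sat q uA (k + 1)).map f) =
        sat q u 0 ⊔ (sat q uA k).map f from ?_]
      refine le_antisymm ?_ (le_inf (sup_le (sat_mono q u k.zero_le) ((hinf hk.le).ge.trans inf_le_left))
        (sup_le_sup_left (Submodule.map_mono (sat_mono q uA k.le_succ)) _))
      rintro z ⟨hz, hzT⟩
      obtain ⟨w, hw, t, ⟨v, hv, rfl⟩, rfl⟩ := Submodule.mem_sup.mp hzT
      refine Submodule.add_mem_sup hw (Submodule.mem_map_of_mem ((hlow hk.le v).mp ?_))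
      simpa using sub_mem hz (sat_mono q u k.zero_le hw)
    rw [hd, hgB, hgA]
    abel
  have hsum : ∀ k ≤ a, d k + ∑ i ∈ Finset.range k, gap q uA i = ∑ i ∈ Finset.range k, gap q u i := by
    intro k
    induction k with
    | zero => simp [hd0]
    | succ k ih =>
      intro hk
      rw [Finset.sum_range_succ, Finset.sum_range_succ, ← ih (by omega)]
      have := hstep k (by omega)
      calc d (k + 1) + (∑ i ∈ Finset.range k, gap q uA i + gap q uA k)
          = d (k + 1) + gap q uA k + ∑ i ∈ Finset.range k, gap q uA i := by abel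
        _ = d k + gap q u k + ∑ i ∈ Finset.range k, gap q uA i := by rw [this]
        _ = _ := by abel
  have htopA : sat q uA a = ⊤ := eq_top_iff.mpr fun z _ => by
    rw [mem_sat, spanBefore_last _ le_rfl, hA]; trivial
  have hz0 : ∀ {l' : ℕ} {W : Type u} [AddCommGroup W] [Module R W] (w : Fin l' → W),
      sat q w 0 = LinearMap.ker (LocalizedModule.mkLinearMap q.asIdeal.primeCompl W) := fun w => by
    ext z
    rw [mem_sat, spanBefore_zero, Submodule.mem_bot, LinearMap.mem_ker]
  have hda : d a = relLen R ((LinearMap.ker (LocalizedModule.mkLinearMap q.asIdeal.primeCompl C)).comap g)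
      (LinearMap.ker (LocalizedModule.mkLinearMap q.asIdeal.primeCompl B) ⊔ LinearMap.range f) := by
    simp only [d]
    rw [htopA, Submodule.map_top, hz0, show sat q u a = sat q u (a + 0) from rfl, hhigh 0, hz0]
  have hup : ∀ j, j < b → gap q u (a + j) = gap q uC j := by
    intro j hj
    have e0 := gap_eq q u (Fin.natAdd a ⟨j, hj⟩)
    have e1 := gap_eq q uC ⟨j, hj⟩
    simp only [Fin.val_natAdd] at e0 e1
    rw [e0, e1, add_assoc, hhigh, hhigh, ← relLen_comap_surj g hg (sat q uC (j + 1))]
    congr 1
    refine le_antisymm (sup_le (Submodule.comap_mono le_sup_left) (Submodule.span_le.mpr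
      (Set.singleton_subset_iff.mpr ?_))) fun z hz => ?_
    · rw [SetLike.mem_coe, Submodule.mem_comap]
      rw [show g (u (Fin.natAdd a ⟨j, hj⟩)) = uC ⟨j, hj⟩ from glue_right _]
      exact Submodule.mem_sup_right (Submodule.mem_span_singleton_self _)
    · obtain ⟨w, hw, t, ht, e⟩ := Submodule.mem_sup.mp (show g z ∈ _ from hz)
      obtain ⟨r, rfl⟩ := Submodule.mem_span_singleton.mp ht
      rw [← sub_add_cancel z (r • u (Fin.natAdd a ⟨j, hj⟩))]
      refine Submodule.add_mem_sup (show g _ ∈ sat q uC j from ?_)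
        (Submodule.smul_mem _ _ (Submodule.mem_span_singleton_self _))
      rw [map_sub, map_smul, show g (u (Fin.natAdd a ⟨j, hj⟩)) = uC ⟨j, hj⟩ from glue_right _, ← e,
        add_sub_cancel_right]
      exact hw
  rw [total, Finset.sum_range_add, Finset.sum_congr rfl (fun j hj => hup j (Finset.mem_range.mp hj)),
    ← hsum a le_rfl, hda, total, total]
  abel

end glue

end Groth.Agent.CycK.Chi
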