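import Groth.Agent.CycK.Chi.Loc
import Groth.Agent.CycK.Class
import Groth.Agent.CycLib.RatSum

/-! The value at a point of dimension `k` of a module with chosen tuples at dimension `k + 1`. -/

set_option autoImplicit false
set_option linter.style.haveILetI false
set_option linter.unusedSectionVars false
set_option backward.isDefEq.respectTransparency false
set_option backward.isDefEq.respectTransparency.types false

universe u

open CategoryTheory CategoryTheory.Limits AlgebraicGeometry TopologicalSpace Opposite IsLocalRing CycDet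

namespace Groth.Agent.CycK.Chi

open Groth.Agent Groth.Agent.CycLib Groth.Agent.CycLib.Ratio
open scoped TensorProduct

variable {X : Scheme.{u}} [IsLocallyNoetherian X] {δ : X → ℤ} {k : ℤ}

section index

variable {R : Type u} [CommRing R] [IsNoetherianRing R] [IsLocalRing R] {ι ι' : Type u} [Fintype ι] [Fintype ι']
  {M : Type u} [AddCommGroup M] [Module R M] [Module.Finite R M]

theorem kerLoc_congr {q : ι → PrimeSpectrum R} {q' : ι' → PrimeSpectrum R} {i : ι} {i' : ι'} (h : q' i' = q i) :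
    kerLoc q' i' M = kerLoc q i M := by
  ext m
  rw [mem_kerLoc, mem_kerLoc, h]

/-- Primes outside the support do not change the Euler characteristic. -/
theorem eul_reindex {q : ι → PrimeSpectrum R} {q' : ι' → PrimeSpectrum R} (e : ι → ι') (he : Function.Injective e)
    (hqe : ∀ i, q' (e i) = q i) (h : Cover q M) (h' : Cover q' M)
    (h0 : ∀ i' ∉ Set.range e, q' i' ∉ Module.support R M) : eul q M = eul q' M := by
  classical
  let ρ : (∀ i', M ⧸ kerLoc q' i' M) →ₗ[R] ∀ i, M ⧸ kerLoc q i M :=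
    LinearMap.pi fun i => (Submodule.quotEquivOfEq _ _ (kerLoc_congr (hqe i))).toLinearMap ∘ₗ
      LinearMap.proj (e i)
  have hcomp : theta q M = ρ ∘ₗ theta q' M := by
    ext m i
    rfl
  have hinj : Function.Injective ρ := (injective_iff_map_eq_zero _).2 fun z hz => funext fun i' => by
    by_cases hi : i' ∈ Set.range e
    · obtain ⟨i, rfl⟩ := hi
      have h1 : Submodule.quotEquivOfEq _ _ (kerLoc_congr (M := M) (hqe i)) (z (e i)) = 0 := congrFun hz i
      exact (LinearEquiv.map_eq_zero_iff _).1 h1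
    · obtain ⟨m, hm⟩ := Submodule.Quotient.mk_surjective _ (z i')
      rw [← hm, Pi.zero_apply, Submodule.Quotient.mk_eq_zero]
      exact mem_kerLoc.mpr (Module.notMem_support_iff'.mp (h0 i' hi) m)
  have hsurj : Function.Surjective ρ := fun z => by
    choose rep hrep using fun j => Submodule.Quotient.mk_surjective _ (z j)
    refine ⟨fun i' => if hi : ∃ i, e i = i' then Submodule.Quotient.mk (rep hi.choose) else 0, funext fun i => ?_⟩
    have hex : ∃ j, e j = e i := ⟨i, rfl⟩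
    simp only [ρ, LinearMap.pi_apply, LinearMap.comp_apply, LinearMap.proj_apply, LinearEquiv.coe_coe]
    rw [dif_pos hex, Submodule.quotEquivOfEq_mk, he hex.choose_spec]
    exact hrep i
  obtain ⟨-, e2⟩ := herbrand_comp (theta q' M) ρ hinj (finCoh_theta h') (hcomp ▸ finCoh_theta h)
  haveI : Subsingleton ((∀ i, M ⧸ kerLoc q i M) ⧸ LinearMap.range ρ) :=
    Submodule.Quotient.subsingleton_iff.mpr (LinearMap.range_eq_top.mpr hsurj)
  rw [Module.length_eq_zero_iff.mpr ‹Subsingleton ((∀ i, M ⧸ kerLoc q i M) ⧸ LinearMap.range ρ)›,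
    ← hcomp] at e2
  rw [eul, eul, e2]
  simp

end index

/-- A choice of tuples in the stalks at the points. -/
abbrev Fr (F : X.Modules) : Type u := ∀ ξ : X, Σ n : ℕ, Fin n → F.presheaf.stalk ξ

/-- The tuples are strict chains at the points of dimension `k + 1`. -/
def IsFr (δ : X → ℤ) (k : ℤ) {F : X.Modules} (ε : Fr F) : Prop :=
  ∀ ξ, δ ξ = k + 1 → Module.length (X.presheaf.stalk ξ) (F.presheaf.stalk ξ) = (ε ξ).1 ∧
    IsAdmissible (X.presheaf.stalk ξ) _ (ε ξ).2 ∧ CycLib.Strict (X.presheaf.stalk ξ) (ε ξ).2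

theorem exists_fr (hd : Cyc.IsDimFun X δ) {F : X.Modules} (hF : Cyc.CohLe δ (k + 1) F) :
    ∃ ε : Fr F, IsFr δ k ε := by
  have : ∀ ξ : X, ∃ p : Σ n : ℕ, Fin n → F.presheaf.stalk ξ, δ ξ = k + 1 →
      Module.length (X.presheaf.stalk ξ) (F.presheaf.stalk ξ) = p.1 ∧
        IsAdmissible (X.presheaf.stalk ξ) _ p.2 ∧ CycLib.Strict (X.presheaf.stalk ξ) p.2 := fun ξ => by
    by_cases hξ : δ ξ = k + 1
    · have hl : Module.length (X.presheaf.stalk ξ) (F.presheaf.stalk ξ) =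
          ((Module.length (X.presheaf.stalk ξ) (F.presheaf.stalk ξ)).toNat : ℕ∞) :=
        (ENat.natCast_toNat (length_lt_top hd hF hξ.ge).ne).symm
      obtain ⟨e, he⟩ := CycLib.exists_strict _ _ hl
      exact ⟨⟨_, e.1⟩, fun _ => ⟨hl, e.2, he⟩⟩
    · exact ⟨⟨0, Fin.elim0⟩, fun h => absurd h hξ⟩
  choose ε hε using this
  exact ⟨ε, hε⟩

open Classical in
/-- The ratio of two symbols. -/
noncomputable def ratio {F : X.Modules} {ξ : X} {n : ℕ} (e' e : Fin n → F.presheaf.stalk ξ) : X.residueField ξ :=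
  if h : ∃ r : X.residueField ξ, clsT (X.presheaf.stalk ξ) e' = (r : ResidueField (X.presheaf.stalk ξ)) • clsT _ e
  then h.choose else 1

section ratio

variable {F : X.Modules} {ξ : X} {n : ℕ} {e' e : Fin n → F.presheaf.stalk ξ}
  (hn : Module.length (X.presheaf.stalk ξ) (F.presheaf.stalk ξ) = n)
  (heA : IsAdmissible (X.presheaf.stalk ξ) _ e) (heS : CycLib.Strict (X.presheaf.stalk ξ) e)

include hn heA heS

theorem clsT_ne_zero : clsT (X.presheaf.stalk ξ) e ≠ 0 := by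
  rw [show clsT (X.presheaf.stalk ξ) e = cls ⟨e, heA⟩ from clsT_adm ⟨e, heA⟩]
  exact cls_ne_zero hn _ heS

theorem ratio_unique {r : X.residueField ξ}
    (h : clsT (X.presheaf.stalk ξ) e' = (r : ResidueField (X.presheaf.stalk ξ)) • clsT _ e) : ratio e' e = r := by
  have hex : ∃ r : X.residueField ξ,
      clsT (X.presheaf.stalk ξ) e' = (r : ResidueField (X.presheaf.stalk ξ)) • clsT _ e := ⟨r, h⟩
  rw [ratio, dif_pos hex]
  exact smul_left_injective _ (clsT_ne_zero hn heA heS) (hex.choose_spec.symm.trans h)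

variable (heA' : IsAdmissible (X.presheaf.stalk ξ) _ e') (heS' : CycLib.Strict (X.presheaf.stalk ξ) e')

include heA' heS'

theorem ratio_spec : clsT (X.presheaf.stalk ξ) e' = (ratio e' e : ResidueField (X.presheaf.stalk ξ)) • clsT _ e ∧
    ratio e' e ≠ 0 := by
  obtain ⟨r, hr⟩ := exists_smul_cls hn ⟨e, heA⟩ heS (clsT (X.presheaf.stalk ξ) e')
  rw [show cls (⟨e, heA⟩ : Adm _ _ n) = clsT (X.presheaf.stalk ξ) e from (clsT_adm ⟨e, heA⟩).symm] at hr
  rw [ratio_unique hn heA heS hr.symm]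
  refine ⟨hr.symm, fun h0 => clsT_ne_zero hn heA' heS' ?_⟩
  rw [← hr]
  exact (congrArg (fun c : ResidueField (X.presheaf.stalk ξ) => c • clsT (X.presheaf.stalk ξ) e) h0).trans (zero_smul _ _)

end ratio

/-- The points of dimension `k + 1` of the support above `x`. -/
def pts (δ : X → ℤ) (k : ℤ) (F : X.Modules) (x : X) : Set X :=
  {ξ | δ ξ = k + 1 ∧ ξ ⤳ x ∧ Nontrivial (F.presheaf.stalk ξ)}

theorem finite_pts (hd : Cyc.IsDimFun X δ) {F : X.Modules} (hF : Cyc.CohLe δ (k + 1) F) (x : X) :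
    (pts δ k F x).Finite := by
  obtain ⟨U, hU, hx, hfin⟩ := lf_sheafFun hd hF x
  refine hfin.subset fun ξ ⟨hξ, hsp, hn⟩ => ⟨hsp.mem_open hU hx, ?_⟩
  simp only [Cyc.sheafFun, if_pos hξ]
  intro h0
  have h0' : (Module.length (X.presheaf.stalk ξ) (F.presheaf.stalk ξ)).toNat = 0 := by exact_mod_cast h0
  rcases ENat.toNat_eq_zero.1 h0' with h | h
  · exact not_subsingleton_iff_nontrivial.2 hn (Module.length_eq_zero_iff.1 h)
  · exact (length_lt_top hd hF hξ.ge).ne h

/-- A finite set of points containing the relevant ones. -/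
structure GoodSet (δ : X → ℤ) (k : ℤ) (F : X.Modules) (x : X) (S : Finset X) : Prop where
  ge : pts δ k F x ⊆ ↑S
  le : ∀ ξ ∈ S, δ ξ = k + 1 ∧ ξ ⤳ x

variable {x : X} {F : X.Modules} {S : Finset X}

/-- The primes of the points. -/
noncomputable def qS (hS : GoodSet δ k F x S) (i : {ξ // ξ ∈ S}) : PrimeSpectrum (X.presheaf.stalk x) :=
  qp (hS.le i.1 i.2).2

theorem exists_point (x : X) (p : PrimeSpectrum (X.presheaf.stalk x)) : ∃ (y : X) (h : y ⤳ x), qp h = p := by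
  obtain ⟨y, h, e⟩ := H23.StalkPrimes.exists_point p.asIdeal
  exact ⟨y, h, PrimeSpectrum.ext ((congrArg PrimeSpectrum.asIdeal (qp_eq h)).trans e)⟩

theorem qp_le_iff {y z : X} (hy : y ⤳ x) (hz : z ⤳ x) : qp hz ≤ qp hy ↔ z ⤳ y := by
  rw [qp_eq, qp_eq]; exact H23.StalkPrimes.primeOf_le_iff hy hz

theorem qp_inj {y z : X} (hy : y ⤳ x) (hz : z ⤳ x) (h : qp hy = qp hz) : y = z :=
  H23.StalkPrimes.primeOf_inj hy hz (by rw [← qp_eq, ← qp_eq, h])

theorem qp_refl (x : X) : qp (specializes_refl x) = closedPoint (X.presheaf.stalk x) := by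
  rw [qp_eq]
  refine PrimeSpectrum.ext (Ideal.ext fun a => ?_)
  rw [CDiv6.mem_primeOf, TopCat.Presheaf.stalkSpecializes_refl]
  exact (IsLocalRing.mem_maximalIdeal _).symm

theorem mem_support_qp (hF : Coh.IsQCoh F) {y : X} (h : y ⤳ x) :
    qp h ∈ Module.support (X.presheaf.stalk x) (F.presheaf.stalk x) ↔ Nontrivial (F.presheaf.stalk y) := by
  obtain ⟨e, -, -⟩ := exists_semi hF h
  rw [Module.mem_support_iff]
  exact e.toEquiv.nontrivial_congr

theorem dim_qp (hd : Cyc.IsDimFun X δ) {ξ : X} (h : ξ ⤳ x) (hx : δ x + 1 = δ ξ)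
    (p : PrimeSpectrum (X.presheaf.stalk x)) (hp : qp h ≤ p) : p = qp h ∨ p = closedPoint _ := by
  obtain ⟨y, hy, rfl⟩ := exists_point x p
  have hsy := (qp_le_iff hy h).1 hp
  have h1 := CycLib.delta_le hd hsy
  have h2 := CycLib.delta_le hd hy
  rcases (show δ y = δ ξ ∨ δ y = δ x by omega) with e | e
  · obtain rfl := CycLib.eq_of_delta_le hd hsy e.ge
    exact Or.inl rfl
  · obtain rfl := CycLib.eq_of_delta_le hd hy e.le
    exact Or.inr (qp_refl y)

theorem cover (hd : Cyc.IsDimFun X δ) (hF : Cyc.CohLe δ (k + 1) F) (hx : δ x = k) (hS : GoodSet δ k F x S) :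
    Cover (qS hS) (F.presheaf.stalk x) where
  inj i j h := Subtype.ext (qp_inj (hS.le i.1 i.2).2 (hS.le j.1 j.2).2 h)
  ne i h := by
    have e := qp_inj (hS.le i.1 i.2).2 (specializes_refl x) (h.trans (qp_refl x).symm)
    have := (hS.le i.1 i.2).1
    rw [e] at this
    omega
  dim i p hp := dim_qp hd (hS.le i.1 i.2).2 (by rw [(hS.le i.1 i.2).1, hx]) p hp
  supp p hp := by
    obtain ⟨y, hy, rfl⟩ := exists_point x p
    have hn := (mem_support_qp hF.1.1 hy).1 hp
    have h1 := hF.2 y hn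
    have h2 := CycLib.delta_le hd hy
    rcases (show δ y = k + 1 ∨ δ y = δ x by omega) with e | e
    · exact Or.inr ⟨⟨y, hS.ge ⟨e, hy, hn⟩⟩, rfl⟩
    · obtain rfl := CycLib.eq_of_delta_le hd hy e.le
      exact Or.inl (qp_refl y)
  min i p hp hle := by
    obtain ⟨y, hy, rfl⟩ := exists_point x p
    have hn := (mem_support_qp hF.1.1 hy).1 hp
    have hsy := (qp_le_iff (hS.le i.1 i.2).2 hy).1 hle
    obtain rfl := CycLib.eq_of_delta_le hd hsy (by rw [(hS.le i.1 i.2).1]; exact hF.2 y hn)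
    rfl

theorem finite_stalk (hF : Coh.IsCoh F) (x : X) : Module.Finite (X.presheaf.stalk x) (F.presheaf.stalk x) :=
  QCoh.finite_stalk_of_isFT hF.1 hF.2 x

/-- Lifts of the tuples. -/
def Tup (hS : GoodSet δ k F x S) (ε : Fr F) (u : ∀ i : {ξ // ξ ∈ S}, Fin (ε i.1).1 → F.presheaf.stalk x) : Prop :=
  ∀ i : {ξ // ξ ∈ S},
    IsAdmissible (X.presheaf.stalk i.1) _ (F.presheaf.stalkSpecializes (hS.le i.1 i.2).2 ∘ u i) ∧
      CycLib.Strict (X.presheaf.stalk i.1) (F.presheaf.stalkSpecializes (hS.le i.1 i.2).2 ∘ u i)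

theorem exists_tup (hF : Coh.IsQCoh F) (hS : GoodSet δ k F x S) {ε : Fr F} (hε : IsFr δ k ε) :
    ∃ u, Tup hS ε u := by
  choose u hA hS' using fun i : {ξ // ξ ∈ S} =>
    exists_tuple hF (hS.le i.1 i.2).2 (hε i.1 (hS.le i.1 i.2).1).2.1 (hε i.1 (hS.le i.1 i.2).1).2.2
  exact ⟨u, fun i => ⟨hA i, hS' i⟩⟩

/-- The value computed by given lifts. -/
noncomputable def valAt (hS : GoodSet δ k F x S) (ε : Fr F)
    (u : ∀ i : {ξ // ξ ∈ S}, Fin (ε i.1).1 → F.presheaf.stalk x) : ℤ :=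
  chi (qS hS) (F.presheaf.stalk x) u -
    ∑ i : {ξ // ξ ∈ S}, Cyc.ordAt x i.1 (hS.le i.1 i.2).2
      (ratio (F.presheaf.stalkSpecializes (hS.le i.1 i.2).2 ∘ u i) (ε i.1).2)

theorem valAt_congr (hd : Cyc.IsDimFun X δ) (hF : Cyc.CohLe δ (k + 1) F) (hx : δ x = k) (hS : GoodSet δ k F x S)
    {ε : Fr F} (hε : IsFr δ k ε) {u u'} (hu : Tup hS ε u) (hu' : Tup hS ε u') :
    valAt hS ε u = valAt hS ε u' := by
  haveI := finite_stalk hF.1 x
  simp only [valAt, chi]
  rw [add_sub_assoc, add_sub_assoc, ← Finset.sum_sub_distrib, ← Finset.sum_sub_distrib]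
  refine congrArg _ (Finset.sum_congr rfl fun i _ => ?_)
  obtain ⟨hξ, h⟩ := hS.le i.1 i.2
  obtain ⟨hn, hA, hSt⟩ := hε i.1 hξ
  obtain ⟨e1, n1⟩ := ratio_spec hn hA hSt (hu' i).1 (hu' i).2
  obtain ⟨e2, -⟩ := ratio_spec hn hA hSt (hu i).1 (hu i).2
  exact total_sub hd hF.1.1 h (by rw [hξ, hx]) (dim_qp hd h (by rw [hξ, hx])) hn (hu' i).1 (hu' i).2
    (hu i).1 (hu i).2 n1 e1 e2 (clsT_ne_zero hn hA hSt)

theorem valAt_mono (hd : Cyc.IsDimFun X δ) (hF : Cyc.CohLe δ (k + 1) F) (hx : δ x = k) {S' : Finset X}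
    (hS : GoodSet δ k F x S) (hS' : GoodSet δ k F x S') (hsub : S ⊆ S') {ε : Fr F} (hε : IsFr δ k ε)
    {u' : ∀ i : {ξ // ξ ∈ S'}, Fin (ε i.1).1 → F.presheaf.stalk x} :
    valAt hS ε (fun i => u' ⟨i.1, hsub i.2⟩) = valAt hS' ε u' := by
  classical
  haveI := finite_stalk hF.1 x
  let e : {ξ // ξ ∈ S} → {ξ // ξ ∈ S'} := fun i => ⟨i.1, hsub i.2⟩
  have he : Function.Injective e := fun i j h => Subtype.ext (congrArg (fun z : {ξ // ξ ∈ S'} => z.1) h)
  have hout : ∀ i' ∉ Set.range e, qS hS' i' ∉ Module.support (X.presheaf.stalk x) (F.presheaf.stalk x) ∧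
      (ε i'.1).1 = 0 := fun i' hi' => by
    have hsub' : Subsingleton (F.presheaf.stalk i'.1) := not_nontrivial_iff_subsingleton.1 fun hn =>
      hi' ⟨⟨i'.1, hS.ge ⟨(hS'.le i'.1 i'.2).1, (hS'.le i'.1 i'.2).2, hn⟩⟩, rfl⟩
    refine ⟨fun h => not_nontrivial_iff_subsingleton.2 hsub' ((mem_support_qp hF.1.1 _).1 h), ?_⟩
    have := (hε i'.1 (hS'.le i'.1 i'.2).1).1
    rw [Module.length_eq_zero_iff.2 hsub'] at this
    exact_mod_cast this.symm
  simp only [valAt, chi]
  rw [eul_reindex (q := qS hS) (q' := qS hS') e he (fun i => rfl) (cover hd hF hx hS) (cover hd hF hx hS') fun i' hi' => (hout i' hi').1,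
    add_sub_assoc, add_sub_assoc, ← Finset.sum_sub_distrib, ← Finset.sum_sub_distrib]
  congr 1
  refine Fintype.sum_of_injective e he _ _ (fun i' hi' => ?_) (fun i => rfl)
  obtain ⟨hξ, h⟩ := hS'.le i'.1 i'.2
  obtain ⟨-, hn0⟩ := hout i' hi'
  have hnil : ∀ j : Fin (ε i'.1).1, False := fun j => (hn0 ▸ j : Fin 0).elim0
  obtain ⟨hn, hA, hSt⟩ := hε i'.1 hξ
  rw [show F.presheaf.stalkSpecializes h ∘ u' i' = (ε i'.1).2 from funext fun j => (hnil j).elim,
    ratio_unique hn hA hSt (r := 1) (one_smul _ _).symm, CycLib.ordAt_one hd h (by rw [hξ, hx]), total,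
    show Finset.range (ε i'.1).1 = ∅ by rw [hn0]; rfl, Finset.sum_empty]
  simp

open Classical in
/-- The cycle of a module with chosen tuples. -/
noncomputable def sVal (δ : X → ℤ) (k : ℤ) (F : X.Modules) (ε : Fr F) (x : X) : ℤ :=
  if h : δ x = k ∧ ∃ (S : Finset X) (hS : GoodSet δ k F x S), (S : Set X) = pts δ k F x ∧ ∃ u, Tup hS ε u then
    valAt h.2.choose_spec.choose ε h.2.choose_spec.choose_spec.2.choose
  else 0

theorem sVal_of_ne {ε : Fr F} (h : δ x ≠ k) : sVal δ k F ε x = 0 := dif_neg fun hh => h hh.1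

theorem sVal_eq (hd : Cyc.IsDimFun X δ) (hF : Cyc.CohLe δ (k + 1) F) (hx : δ x = k) {ε : Fr F} (hε : IsFr δ k ε)
    (hS : GoodSet δ k F x S) {u} (hu : Tup hS ε u) : sVal δ k F ε x = valAt hS ε u := by
  classical
  have hex : δ x = k ∧ ∃ (S : Finset X) (hS : GoodSet δ k F x S), (S : Set X) = pts δ k F x ∧ ∃ u, Tup hS ε u := by
    refine ⟨hx, (finite_pts hd hF x).toFinset, ?_⟩
    have hS0 : GoodSet δ k F x (finite_pts hd hF x).toFinset :=
      ⟨fun ξ hξ => (finite_pts hd hF x).mem_toFinset.2 hξ, fun ξ hξ =>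
        ⟨((finite_pts hd hF x).mem_toFinset.1 hξ).1, ((finite_pts hd hF x).mem_toFinset.1 hξ).2.1⟩⟩
    exact ⟨hS0, Set.Finite.coe_toFinset _, exists_tup hF.1.1 hS0 hε⟩
  rw [sVal, dif_pos hex]
  have hsub : hex.2.choose ⊆ S := fun ξ hξ =>
    hS.ge (hex.2.choose_spec.choose_spec.1 ▸ Finset.mem_coe.2 hξ)
  rw [← valAt_mono hd hF hx hex.2.choose_spec.choose hS hsub hε]
  exact valAt_congr hd hF hx _ hε hex.2.choose_spec.choose_spec.2.choose_spec fun i => hu ⟨i.1, hsub i.2⟩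

end Groth.Agent.CycK.Chi
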